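import Mathlib

/-!
Polarization of homogeneous cubics and Eckardt points of smooth cubic surfaces.
-/

namespace Groth.Agent.CubicH28

open MvPolynomial

variable {K : Type*} [Field K] {σ : Type*}

/-- The symmetric trilinear form of a cubic (`6` times the normalised one). -/
noncomputable def T (f : MvPolynomial σ K) (a b c : σ → K) : K :=
  eval (a + b + c) f - eval (a + b) f - eval (a + c) f - eval (b + c) f
    + eval a f + eval b f + eval c f

lemma T_symm12 (f : MvPolynomial σ K) (a b c : σ → K) : T f a b c = T f b a c := by
  simp only [T, add_comm b a, add_comm b c]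
  ring

lemma T_symm23 (f : MvPolynomial σ K) (a b c : σ → K) : T f a b c = T f a c b := by
  simp only [T, add_comm c b, add_right_comm a c b]
  ring

lemma T_add_poly (f g : MvPolynomial σ K) (a b c : σ → K) : T (f + g) a b c = T f a b c + T g a b c := by
  simp only [T, map_add]; ring

lemma T_smul_poly (r : K) (f : MvPolynomial σ K) (a b c : σ → K) : T (r • f) a b c = r * T f a b c := by
  simp only [T, smul_eval]; ring

/-- A linear property of cubics holds as soon as it holds for `XᵢXⱼXₗ`. -/
theorem cubic_induction {P : MvPolynomial σ K → Prop} (h0 : P 0) (hadd : ∀ f g, P f → P g → P (f + g))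
    (hsmul : ∀ (r : K) f, P f → P (r • f)) (hX : ∀ i j l : σ, P (X i * X j * X l))
    {f : MvPolynomial σ K} (hf : f.IsHomogeneous 3) : P f := by
  classical
  rw [f.as_sum]
  refine Finset.sum_induction _ P hadd h0 fun d hd => ?_
  have hd3 : Multiset.card (Finsupp.toMultiset d) = 3 := by
    rw [Finsupp.card_toMultiset]
    have := hf (mem_support_iff.mp hd)
    rw [Finsupp.weight_apply] at this
    simpa [Finsupp.sum] using this
  obtain ⟨i, j, l, hijl⟩ := Multiset.card_eq_three.mp hd3
  have hm : monomial d (1 : K) = X i * X j * X l := by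
    have : ((Finsupp.toMultiset d).map (fun x => (X x : MvPolynomial σ K))).prod = monomial d (1 : K) := by
      rw [monomial_eq, C_1, one_mul, Finsupp.toMultiset_map, Finsupp.prod_toMultiset,
        Finsupp.prod_mapDomain_index (by simp) (fun _ _ _ => pow_add _ _ _)]
    rw [← this, hijl]
    simp [mul_assoc]
  rw [show monomial d (coeff d f) = coeff d f • monomial d (1 : K) by rw [smul_monomial, smul_eq_mul, mul_one], hm]
  exact hsmul _ _ (hX i j l)

variable {f : MvPolynomial σ K} (hf : f.IsHomogeneous 3)
include hf

theorem T_add (a a' b c : σ → K) : T f (a + a') b c = T f a b c + T f a' b c := by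
  refine cubic_induction (P := fun f => T f (a + a') b c = T f a b c + T f a' b c)
    (by simp [T]) (fun f g h h' => by rw [T_add_poly, T_add_poly, T_add_poly, h, h']; ring)
    (fun r f h => by rw [T_smul_poly, T_smul_poly, T_smul_poly, h]; ring)
    (fun i j l => by simp only [T, map_mul, eval_X, Pi.add_apply]; ring) hf

theorem T_smul (r : K) (a b c : σ → K) : T f (r • a) b c = r * T f a b c := by
  refine cubic_induction (P := fun f => T f (r • a) b c = r * T f a b c)
    (by simp [T]) (fun f g h h' => by rw [T_add_poly, T_add_poly, h, h']; ring)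
    (fun s f h => by rw [T_smul_poly, T_smul_poly, h]; ring)
    (fun i j l => by simp only [T, map_mul, eval_X, Pi.add_apply, Pi.smul_apply, smul_eq_mul]; ring) hf

theorem T_add₂ (a b b' c : σ → K) : T f a (b + b') c = T f a b c + T f a b' c := by
  rw [T_symm12 f a (b + b'), T_add hf, T_symm12 f b a, T_symm12 f b' a]

theorem T_smul₂ (r : K) (a b c : σ → K) : T f a (r • b) c = r * T f a b c := by
  rw [T_symm12 f a (r • b), T_smul hf, T_symm12 f b a]

theorem T_add₃ (a b c c' : σ → K) : T f a b (c + c') = T f a b c + T f a b c' := by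
  rw [T_symm23 f a b (c + c'), T_add₂ hf, T_symm23 f a c b, T_symm23 f a c' b]

theorem T_smul₃ (r : K) (a b c : σ → K) : T f a b (r • c) = r * T f a b c := by
  rw [T_symm23 f a b (r • c), T_smul₂ hf, T_symm23 f a c b]

theorem T_self (a : σ → K) : T f a a a = 6 * eval a f := by
  refine cubic_induction (P := fun f => T f a a a = 6 * eval a f)
    (by simp [T]) (fun f g h h' => by rw [T_add_poly, h, h', map_add]; ring)
    (fun s f h => by rw [T_smul_poly, h, smul_eval]; ring)
    (fun i j l => by simp only [T, map_mul, eval_X, Pi.add_apply]; ring) hf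

/-- The expansion along a line. -/
theorem eval_line [CharZero K] (x y : σ → K) (t : K) :
    eval (x + t • y) f = eval x f + t * (T f x x y / 2) + t ^ 2 * (T f x y y / 2) + t ^ 3 * eval y f := by
  refine cubic_induction (P := fun f => eval (x + t • y) f =
      eval x f + t * (T f x x y / 2) + t ^ 2 * (T f x y y / 2) + t ^ 3 * eval y f)
    (by simp [T]) (fun f g h h' => by rw [T_add_poly, T_add_poly, map_add, map_add, map_add, h, h']; ring)
    (fun s f h => by rw [T_smul_poly, T_smul_poly, smul_eval, smul_eval, smul_eval, h]; ring)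
    (fun i j l => by simp only [T, map_mul, eval_X, Pi.add_apply, Pi.smul_apply, smul_eq_mul]; ring) hf

theorem pderiv_eq [Fintype σ] [CharZero K] (v x : σ → K) :
    ∑ i, x i * eval v (pderiv i f) = T f v v x / 2 := by
  classical
  refine cubic_induction (P := fun f => ∑ i, x i * eval v (pderiv i f) = T f v v x / 2)
    (by simp [T]) (fun f g h h' => by
      simp only [map_add, mul_add, Finset.sum_add_distrib, h, h', T_add_poly]; ring)
    (fun s f h => by
      simp only [Derivation.map_smul, smul_eval, T_smul_poly]
      rw [mul_div_assoc, ← h, Finset.mul_sum]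
      exact Finset.sum_congr rfl fun i _ => by ring)
    (fun i j l => by
      have key : ∀ (a : σ) (w : K), ∑ k, x k * ((if a = k then 1 else 0) * w) = x a * w := fun a w => by
        simp [mul_ite, ite_mul]
      have : ∀ k, x k * eval v (pderiv k (X i * X j * X l)) = x k * ((if i = k then 1 else 0) * (v j * v l))
          + x k * ((if j = k then 1 else 0) * (v i * v l)) + x k * ((if l = k then 1 else 0) * (v i * v j)) := by
        intro k
        simp only [pderiv_mul, map_add, map_mul, eval_X, pderiv_X, Pi.single_apply, apply_ite (eval v),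
          map_one, map_zero]
        split_ifs <;> ring
      simp only [this, Finset.sum_add_distrib, key, T, Pi.add_apply, map_mul, eval_X]
      ring) hf

omit hf in
/-- Coefficients of a cubic vanishing at every `t` vanish. -/
lemma coeff_zero [CharZero K] {A B C D : K} (h : ∀ t : K, A + t * B + t ^ 2 * C + t ^ 3 * D = 0) :
    A = 0 ∧ B = 0 ∧ C = 0 ∧ D = 0 := by
  have h0 := h 0; have h1 := h 1; have h2 := h (-1); have h3 := h 2
  refine ⟨by linear_combination h0, ?_, ?_, ?_⟩
  · linear_combination (-(1:K) / 2) * h0 + h1 - (1 / 3 : K) * h2 - (1 / 6 : K) * h3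
  · linear_combination (1 / 2 : K) * h1 + (1 / 2 : K) * h2 - h0
  · linear_combination (1 / 2 : K) * h0 - (1 / 2 : K) * h1 - (1 / 6 : K) * h2 + (1 / 6 : K) * h3

section Surface

variable [CharZero K]

/-- vanishing on a line through `e` gives two linear conditions -/
theorem line_cond (e u : σ → K) (h : ∀ t : K, eval (u + t • e) f = 0) :
    eval u f = 0 ∧ T f u u e = 0 ∧ T f u e e = 0 ∧ eval e f = 0 := by
  obtain ⟨h1, h2, h3, h4⟩ := coeff_zero (fun t => (eval_line hf u e t).symm.trans (h t))
  exact ⟨h1, by linear_combination 2 * h2, by linear_combination 2 * h3, h4⟩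

end Surface

end Groth.Agent.CubicH28
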