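import Mathlib
import Groth.Agent.Lib.CubicH28.Basic

/-!
Smooth cubic surfaces: Eckardt points and their involutions.
-/

namespace Groth.Agent.CubicH28

open MvPolynomial Module

variable {K : Type*} [Field K] [CharZero K]

local notation "V" => (Fin 4 → K)

variable {f : MvPolynomial (Fin 4) K} (hf : f.IsHomogeneous 3)
include hf

/-- The tangent form at a point. -/
noncomputable def tang (e : V) : V →ₗ[K] K where
  toFun x := T f e e x / 2
  map_add' x y := by rw [T_add₃ hf]; ring
  map_smul' r x := by rw [T_smul₃ hf, RingHom.id_apply, smul_eq_mul]; ring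

lemma tang_apply (e x : V) : tang hf e x = T f e e x / 2 := rfl

lemma tang_self (e : V) (hfe : eval e f = 0) : tang hf e e = 0 := by
  rw [tang_apply, T_self hf, hfe]; simp

lemma tang_ne_zero_of_jacobian
    (hsm : ∀ v : V, v ≠ 0 → eval v f = 0 → ∃ i : Fin 4, eval v (pderiv i f) ≠ 0) :
    ∀ v : V, v ≠ 0 → eval v f = 0 → tang hf v ≠ 0 := by
  intro v hv hfv h
  obtain ⟨i, hi⟩ := hsm v hv hfv
  apply hi
  have h1 := pderiv_eq hf v (Pi.single i (1 : K))
  have h2 : T f v v (Pi.single i (1 : K)) / 2 = 0 := LinearMap.congr_fun h _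
  rw [h2] at h1
  simpa [Pi.single_apply] using h1

omit hf [CharZero K] in
/-- A nonzero zero of a binary quadratic form. -/
lemma exists_quad_root [IsAlgClosed K] (a b c : K) :
    ∃ s t : K, (s ≠ 0 ∨ t ≠ 0) ∧ a * s ^ 2 + b * s * t + c * t ^ 2 = 0 := by
  by_cases ha : a = 0
  · exact ⟨1, 0, Or.inl one_ne_zero, by simp [ha]⟩
  · have hdeg : (Polynomial.C a * Polynomial.X ^ 2 + Polynomial.C b * Polynomial.X + Polynomial.C c).degree ≠ 0 := by
      rw [Polynomial.degree_quadratic ha]; norm_num
    obtain ⟨s, hs⟩ := IsAlgClosed.exists_root _ hdeg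
    refine ⟨s, 1, Or.inr one_ne_zero, ?_⟩
    simpa [Polynomial.IsRoot] using hs

omit hf [CharZero K] in
lemma exists_pair (s : V →ₗ[K] K) : ∃ h₁ h₂ : V, LinearIndependent K ![h₁, h₂] ∧ s h₁ = 0 ∧ s h₂ = 0 := by
  have h : 2 ≤ finrank K (LinearMap.ker s) := by
    have h1 := LinearMap.finrank_range_add_finrank_ker s
    have h2 := Submodule.finrank_le (LinearMap.range s)
    simp only [Module.finrank_self] at h2
    rw [Module.finrank_pi] at h1
    simp at h1
    omega
  obtain ⟨w, hw⟩ := exists_linearIndependent_of_le_finrank h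
  refine ⟨(w 0).1, (w 1).1, ?_, (w 0).2, (w 1).2⟩
  rw [LinearIndependent.pair_iff]
  intro a b hab
  have := Fintype.linearIndependent_iff.mp hw ![a, b] (Subtype.ext (by simpa [Fin.sum_univ_two] using hab))
  exact ⟨this 0, this 1⟩

/-- A smooth cubic surface contains no plane. -/
theorem no_plane [IsAlgClosed K] (hsm : ∀ v : V, v ≠ 0 → eval v f = 0 → tang hf v ≠ 0) (s : V →ₗ[K] K)
    (hs : ∀ x, s x = 0 → eval x f = 0) : False := by
  have hlin : ∀ v x : V, s v = 0 → s x = 0 → T f v v x = 0 := by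
    intro v x hv hx
    have h := line_cond hf x v (fun t => hs _ (by simp [hv, hx]))
    exact h.2.1
  obtain ⟨h₁, h₂, hind, e1, e2⟩ := exists_pair s
  by_cases hs0 : s = 0
  · have hv : h₁ ≠ 0 := by simpa using hind.ne_zero 0
    exact hsm h₁ hv (hs _ e1) (LinearMap.ext fun x => by
      rw [tang_apply, hlin h₁ x e1 (by simp [hs0]), zero_div, LinearMap.zero_apply])
  obtain ⟨x₀, hx₀⟩ : ∃ x₀, s x₀ = 1 := by
    obtain ⟨y, hy⟩ : ∃ y, s y ≠ 0 := by
      by_contra hcon
      push Not at hcon
      exact hs0 (LinearMap.ext hcon)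
    exact ⟨(s y)⁻¹ • y, by simp [hy]⟩
  obtain ⟨a, b, hab, hq⟩ := exists_quad_root (T f h₁ h₁ x₀) (2 * T f h₁ h₂ x₀) (T f h₂ h₂ x₀)
  have hvne : a • h₁ + b • h₂ ≠ 0 := by
    intro h
    have := LinearIndependent.pair_iff.mp hind a b h
    rcases hab with hab | hab
    · exact hab this.1
    · exact hab this.2
  have hv0 : s (a • h₁ + b • h₂) = 0 := by simp [e1, e2]
  have hvx : T f (a • h₁ + b • h₂) (a • h₁ + b • h₂) x₀ = 0 := by
    simp only [T_add hf, T_add₂ hf, T_smul hf, T_smul₂ hf]
    rw [T_symm12 f h₂ h₁]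
    linear_combination hq
  refine hsm _ hvne (hs _ hv0) (LinearMap.ext fun x => ?_)
  have hx : x = (x - s x • x₀) + s x • x₀ := by simp
  rw [tang_apply, LinearMap.zero_apply, hx, T_add₃ hf, T_smul₃ hf, hvx,
    hlin _ _ hv0 (by simp [hx₀])]
  simp

/-- Eckardt data: the second polar is divisible by the tangent form. -/
def IsEck (e : V) (m : V →ₗ[K] K) : Prop :=
  eval e f = 0 ∧ m e = 2 ∧ ∀ x, T f e x x / 2 = tang hf e x * m x

lemma eval_shift {e : V} {m : V →ₗ[K] K} (h : IsEck hf e m) (x : V) (t : K) :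
    eval (x + t • e) f = eval x f + t * (tang hf e x * m x) + t ^ 2 * tang hf e x := by
  rw [eval_line hf, h.1, ← h.2.2 x, tang_apply, T_symm23 f x x e, T_symm12 f x e x, T_symm23 f x e e,
    T_symm12 f x e e, T_symm23 f e x e]
  ring

/-- An Eckardt point yields the factorisation. -/
theorem isEck_of_three_lines [IsAlgClosed K] (hsm : ∀ v : V, v ≠ 0 → eval v f = 0 → tang hf v ≠ 0)
    {e : V} (he : e ≠ 0)
    (hE : ∃ U : Fin 3 → Submodule K V, Function.Injective U ∧
      ∀ i : Fin 3, finrank K ↥(U i) = 2 ∧ e ∈ U i ∧ ∀ u ∈ U i, eval u f = 0) :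
    ∃ m : V →ₗ[K] K, IsEck hf e m := by
  obtain ⟨U, hUinj, hU⟩ := hE
  have hfe : eval e f = 0 := (hU 0).2.2 e (hU 0).2.1
  have hL := hsm e he hfe
  have key : ∀ i, ∀ u ∈ U i, tang hf e u = 0 ∧ T f e u u = 0 := by
    intro i u hu
    obtain ⟨-, h1, h2, -⟩ := line_cond hf e u (fun t => (hU i).2.2 _ (add_mem hu (Submodule.smul_mem _ t (hU i).2.1)))
    refine ⟨?_, ?_⟩
    · rw [tang_apply, T_symm23 f e e u, T_symm12 f e u e, h2, zero_div]
    · rw [T_symm12 f e u u, T_symm23 f u e u, h1]
  have hex : ∀ i, ∃ u ∈ U i, u ∉ K ∙ e := by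
    intro i
    by_contra hcon
    push Not at hcon
    have h1 := Submodule.finrank_mono (show U i ≤ K ∙ e from hcon)
    rw [finrank_span_singleton he, (hU i).1] at h1
    omega
  choose u hu hue using hex
  have hspan : ∀ i, U i = Submodule.span K {u i, e} := by
    intro i
    refine (Submodule.eq_of_le_of_finrank_eq (Submodule.span_le.mpr (by
      simp [Set.insert_subset_iff, hu i, (hU i).2.1])) ?_).symm
    rw [(hU i).1]
    have hli : LinearIndependent K ![u i, e] := by
      rw [linearIndependent_fin2]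
      exact ⟨by simpa using he, fun a h => hue i (Submodule.mem_span_singleton.mpr ⟨a, h⟩)⟩
    have := finrank_span_eq_card hli
    rw [Matrix.range_cons, Matrix.range_cons, Matrix.range_empty, Set.union_empty, ← Set.insert_eq, Fintype.card_fin] at this
    exact this
  have hnot : ∀ i j, i ≠ j → u i ∉ U j := by
    intro i j hij h
    refine hij (hUinj ?_)
    refine Submodule.eq_of_le_of_finrank_eq ?_ ((hU i).1.trans (hU j).1.symm)
    rw [hspan i]
    exact Submodule.span_le.mpr (by simp [Set.insert_subset_iff, h, (hU j).2.1])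
  have hindep : LinearIndependent K ![u 0, u 1, e] := by
    rw [Fintype.linearIndependent_iff]
    intro g hg
    simp [Fin.sum_univ_three] at hg
    by_cases h0 : g 0 = 0
    · rw [h0, zero_smul, zero_add] at hg
      have h1 : g 1 = 0 := by
        by_contra h1
        refine hue 1 (Submodule.mem_span_singleton.mpr ⟨-(g 1)⁻¹ * g 2, ?_⟩)
        have h3 := congrArg (fun z => (g 1)⁻¹ • z) hg
        simp [smul_smul, h1] at h3
        rw [eq_neg_of_add_eq_zero_left h3, ← neg_smul, neg_mul]
      rw [h1, zero_smul, zero_add, smul_eq_zero] at hg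
      intro i; fin_cases i
      · exact h0
      · exact h1
      · exact hg.resolve_right he
    · exfalso
      refine hnot 0 1 (by decide) ?_
      have h3 := congrArg (fun z => (g 0)⁻¹ • z) hg
      simp [smul_smul, h0] at h3
      rw [add_assoc] at h3
      rw [eq_neg_of_add_eq_zero_left h3]
      exact neg_mem (add_mem (Submodule.smul_mem _ _ (hu 1)) (Submodule.smul_mem _ _ (hU 1).2.1))
  have hker : LinearMap.ker (tang hf e) = Submodule.span K (Set.range ![u 0, u 1, e]) := by
    refine (Submodule.eq_of_le_of_finrank_eq (Submodule.span_le.mpr ?_) ?_).symm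
    · rintro _ ⟨i, rfl⟩
      fin_cases i
      · exact (key 0 _ (hu 0)).1
      · exact (key 1 _ (hu 1)).1
      · exact tang_self hf e hfe
    · rw [finrank_span_eq_card hindep, Fintype.card_fin]
      have h1 := LinearMap.finrank_range_add_finrank_ker (tang hf e)
      rw [LinearMap.range_eq_top.mpr (LinearMap.surjective hL), finrank_top, Module.finrank_self] at h1
      simp at h1
      omega
  have hee : ∀ x, tang hf e x = 0 → T f e x e = 0 := fun x hx => by
    rw [tang_apply] at hx
    rw [T_symm23 f e x e]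
    linear_combination 2 * hx
  have h11 := (key 0 _ (hu 0)).2
  have h22 := (key 1 _ (hu 1)).2
  have h12 : T f e (u 0) (u 1) = 0 := by
    have hmem : u 2 ∈ LinearMap.ker (tang hf e) := (key 2 _ (hu 2)).1
    rw [hker] at hmem
    obtain ⟨g, hg⟩ := (Submodule.mem_span_range_iff_exists_fun K).mp hmem
    simp [Fin.sum_univ_three] at hg
    have ha : g 0 ≠ 0 := by
      intro h
      rw [h, zero_smul, zero_add] at hg
      exact hnot 2 1 (by decide) (hg ▸ add_mem (Submodule.smul_mem _ _ (hu 1)) (Submodule.smul_mem _ _ (hU 1).2.1))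
    have hb : g 1 ≠ 0 := by
      intro h
      rw [h, zero_smul, add_zero] at hg
      exact hnot 2 0 (by decide) (hg ▸ add_mem (Submodule.smul_mem _ _ (hu 0)) (Submodule.smul_mem _ _ (hU 0).2.1))
    have h33 := (key 2 _ (hu 2)).2
    have p0 := hee (u 0) (key 0 _ (hu 0)).1
    have p1 := hee (u 1) (key 1 _ (hu 1)).1
    have p2 := hee e (tang_self hf e hfe)
    rw [← hg] at h33
    simp only [T_add₂ hf, T_add₃ hf, T_smul₂ hf, T_smul₃ hf, h11, h22, p0, p1, p2,
      T_symm23 f e (u 1) (u 0), T_symm23 f e e (u 0), T_symm23 f e e (u 1)] at h33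
    have : g 0 * g 1 * T f e (u 0) (u 1) = 0 := by linear_combination h33 / 2
    simpa [ha, hb] using this
  have hH : ∀ x y, tang hf e x = 0 → tang hf e y = 0 → T f e x y = 0 := by
    intro x y hx hy
    have hx' : x ∈ LinearMap.ker (tang hf e) := hx
    have hy' : y ∈ LinearMap.ker (tang hf e) := hy
    rw [hker] at hx' hy'
    obtain ⟨g, rfl⟩ := (Submodule.mem_span_range_iff_exists_fun K).mp hx'
    obtain ⟨g', rfl⟩ := (Submodule.mem_span_range_iff_exists_fun K).mp hy'
    have p0 := hee (u 0) (key 0 _ (hu 0)).1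
    have p1 := hee (u 1) (key 1 _ (hu 1)).1
    have p2 := hee e (tang_self hf e hfe)
    simp [Fin.sum_univ_three, T_add₂ hf, T_add₃ hf, T_smul₂ hf, T_smul₃ hf, h11, h22, h12, p0, p1, p2,
      T_symm23 f e (u 1) (u 0), T_symm23 f e e (u 0), T_symm23 f e e (u 1)]
  obtain ⟨v, hv⟩ : ∃ v, tang hf e v = 1 := LinearMap.surjective hL 1
  let φ : V →ₗ[K] K :=
    { toFun := fun x => T f e v x
      map_add' := fun x y => T_add₃ hf e v x y
      map_smul' := fun r x => T_smul₃ hf r e v x }
  refine ⟨φ - (T f e v v / 2) • tang hf e, hfe, ?_, fun x => ?_⟩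
  · simp only [LinearMap.sub_apply, LinearMap.smul_apply, tang_self hf e hfe, smul_zero, sub_zero]
    show T f e v e = 2
    rw [T_symm23 f e v e]
    rw [tang_apply] at hv
    linear_combination 2 * hv
  · have hx : tang hf e (x - tang hf e x • v) = 0 := by simp [hv]
    have h := hH _ _ hx hx
    simp only [sub_eq_add_neg, ← neg_smul, T_add₂ hf, T_add₃ hf, T_smul₂ hf, T_smul₃ hf] at h
    rw [T_symm23 f e x v] at h
    simp only [LinearMap.sub_apply, LinearMap.smul_apply, smul_eq_mul]
    show _ = _ * (T f e v x - _)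
    linear_combination h / 2

end Groth.Agent.CubicH28
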