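import Mathlib
import Groth.Agent.Lib.CubicH28.Eckardt

/-!
Eckardt involutions of smooth cubic surfaces.
-/

namespace Groth.Agent.CubicH28

open MvPolynomial Module Matrix

variable {K : Type*} [Field K] [CharZero K] [IsAlgClosed K]

local notation "V" => (Fin 4 → K)

variable {f : MvPolynomial (Fin 4) K} (hf : f.IsHomogeneous 3)
include hf

omit hf [CharZero K] [IsAlgClosed K] in
/-- The reflection `x ↦ x - m x • e`. -/
def refl' (e : V) (m : V →ₗ[K] K) : V →ₗ[K] V := LinearMap.id - m.smulRight e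

omit hf [CharZero K] [IsAlgClosed K] in
lemma refl'_apply (e : V) (m : V →ₗ[K] K) (x : V) : refl' e m x = x - m x • e := rfl

omit hf [CharZero K] [IsAlgClosed K] in
lemma refl'_refl' {e : V} {m : V →ₗ[K] K} (h : m e = 2) (x : V) : refl' e m (refl' e m x) = x := by
  simp only [refl'_apply, map_sub, map_smul, h, smul_eq_mul]
  module

omit [IsAlgClosed K] in
lemma eval_refl' {e : V} {m : V →ₗ[K] K} (h : IsEck hf e m) (x : V) :
    eval (refl' e m x) f = eval x f := by
  rw [refl'_apply, sub_eq_add_neg, ← neg_smul, eval_shift hf h]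
  ring

omit hf [CharZero K] [IsAlgClosed K] in
lemma eval_subst (A : Matrix (Fin 4) (Fin 4) K) (g : MvPolynomial (Fin 4) K) (x : V) :
    eval x (aeval (fun i : Fin 4 => ∑ j : Fin 4, C (A i j) * X j) g) = eval (A *ᵥ x) g := by
  induction g using MvPolynomial.induction_on with
  | C a => simp
  | add p q hp hq => rw [map_add, map_add, hp, hq, map_add]
  | mul_X p n hp =>
    rw [map_mul, map_mul, hp, map_mul, aeval_X, map_sum, eval_X]
    simp [Matrix.mulVec, dotProduct]

/-- The matrix-level predicate used in the statements. -/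
def IsInv (f : MvPolynomial (Fin 4) K) (A : Matrix (Fin 4) (Fin 4) K) (e : V) : Prop :=
  A * A = 1 ∧ finrank K ↥(LinearMap.ker (Matrix.toLin' A - LinearMap.id)) = 3 ∧
    A *ᵥ e = -e ∧ ∃ c : K, aeval (fun i : Fin 4 => ∑ j : Fin 4, C (A i j) * X j) f = C c * f

omit [IsAlgClosed K] in
theorem isInv_refl' {e : V} (he : e ≠ 0) {m : V →ₗ[K] K} (h : IsEck hf e m) :
    IsInv f (LinearMap.toMatrix' (refl' e m)) e := by
  refine ⟨?_, ?_, ?_, ⟨1, ?_⟩⟩
  · rw [← LinearMap.toMatrix'_comp, ← LinearMap.toMatrix'_id]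
    exact congrArg _ (LinearMap.ext fun x => refl'_refl' h.2.1 x)
  · rw [Matrix.toLin'_toMatrix']
    have hk : LinearMap.ker (refl' e m - LinearMap.id) = LinearMap.ker m := by
      ext x
      simp [refl'_apply, he]
    rw [hk]
    have hm : m ≠ 0 := fun h0 => by
      have h2 := h.2.1
      rw [h0] at h2
      exact two_ne_zero (α := K) (by simpa using h2.symm)
    have h1 := LinearMap.finrank_range_add_finrank_ker m
    rw [LinearMap.range_eq_top.mpr (LinearMap.surjective hm), finrank_top, Module.finrank_self] at h1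
    simp at h1
    omega
  · rw [LinearMap.toMatrix'_mulVec, refl'_apply, h.2.1]
    module
  · refine MvPolynomial.funext fun x => ?_
    rw [eval_subst, LinearMap.toMatrix'_mulVec, eval_refl' hf h, map_mul, eval_C, one_mul]

/-- Any such involution comes from a factorisation of the second polar. -/
theorem isEck_of_isInv (hsm : ∀ v : V, v ≠ 0 → eval v f = 0 → tang hf v ≠ 0) {e : V} (he : e ≠ 0)
    (hfe : eval e f = 0) {A : Matrix (Fin 4) (Fin 4) K} (hA : IsInv f A e) :
    ∃ m : V →ₗ[K] K, IsEck hf e m ∧ ∀ x, A *ᵥ x = refl' e m x := by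
  obtain ⟨-, hker, hAe, c, hc⟩ := hA
  let B : V →ₗ[K] V := Matrix.toLin' A - LinearMap.id
  have hBe : B e = (-2 : K) • e := by
    simp only [B, LinearMap.sub_apply, Matrix.toLin'_apply, hAe, LinearMap.id_apply]
    module
  have hrange : LinearMap.range B = K ∙ e := by
    refine (Submodule.eq_of_le_of_finrank_eq ?_ ?_).symm
    · rw [Submodule.span_singleton_le_iff_mem]
      refine ⟨(-2 : K)⁻¹ • e, ?_⟩
      rw [map_smul, hBe, smul_smul, inv_mul_cancel₀ (by norm_num), one_smul]
    · have h1 := LinearMap.finrank_range_add_finrank_ker B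
      rw [finrank_span_singleton he]
      simp at h1
      simp only [B] at h1 hker ⊢
      omega
  obtain ⟨φ, hφ⟩ : ∃ φ : V →ₗ[K] K, φ e = 1 := by
    obtain ⟨φ, hφ⟩ := Module.Projective.exists_dual_ne_zero K he
    exact ⟨(φ e)⁻¹ • φ, by simp [hφ]⟩
  obtain ⟨s, hs⟩ : ∃ s : V →ₗ[K] K, ∀ x, B x = s x • e := by
    refine ⟨φ.comp B, fun x => ?_⟩
    have : B x ∈ K ∙ e := hrange ▸ LinearMap.mem_range_self B x
    obtain ⟨a, ha⟩ := Submodule.mem_span_singleton.mp this
    rw [LinearMap.comp_apply, ← ha, map_smul, hφ]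
    simp
  have hAx : ∀ x, A *ᵥ x = x + s x • e := fun x => by
    rw [← hs]; simp [B, Matrix.toLin'_apply]
  have hse : s e = -2 := by
    have h1 := hs e
    rw [hBe] at h1
    have := congrArg φ h1
    simp [hφ] at this
    exact this.symm
  have heq : ∀ x, eval (x + s x • e) f = c * eval x f := fun x => by
    rw [← hAx, ← eval_subst, hc, map_mul, eval_C]
  have hc1 : c = 1 := by
    by_contra hne
    refine no_plane hf hsm s fun x hx => ?_
    have := heq x
    rw [hx, zero_smul, add_zero] at this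
    have h2 : (c - 1) * eval x f = 0 := by linear_combination -this
    exact (mul_eq_zero.mp h2).resolve_left (sub_ne_zero.mpr hne)
  have hexp : ∀ (x : V) (t : K), eval (x + t • e) f = eval x f + t * (T f e x x / 2) + t ^ 2 * tang hf e x := by
    intro x t
    rw [eval_line hf, hfe, tang_apply, T_symm23 f x x e, T_symm12 f x e x, T_symm23 f x e e,
      T_symm12 f x e e, T_symm23 f e x e]
    ring
  have hkey : ∀ x, T f e x x / 2 = -(s x * tang hf e x) := by
    intro x
    by_cases hx : s x = 0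
    · -- shift along `e`
      have h1 := heq (x + e)
      have hsx : s (x + e) = -2 := by rw [map_add, hx, hse, zero_add]
      rw [hsx, hc1, one_mul] at h1
      have e1 : x + e + (-2 : K) • e = x + (-1 : K) • e := by module
      rw [e1, hexp, ← one_smul K e, hexp] at h1
      simp only [one_smul] at h1
      rw [hx, zero_mul, neg_zero]
      linear_combination (-(1:K) / 2) * h1
    · have h1 := heq x
      rw [hexp, hc1] at h1
      have h2 : s x * (T f e x x / 2 + s x * tang hf e x) = 0 := by linear_combination h1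
      exact eq_neg_of_add_eq_zero_left ((mul_eq_zero.mp h2).resolve_left hx)
  refine ⟨-s, ⟨hfe, by simp [hse], fun x => by rw [hkey, LinearMap.neg_apply]; ring⟩, fun x => ?_⟩
  rw [hAx, refl'_apply, LinearMap.neg_apply, neg_smul, sub_neg_eq_add]

omit [IsAlgClosed K] in
theorem isEck_unique {e : V} (hL : tang hf e ≠ 0) {m m' : V →ₗ[K] K} (h : IsEck hf e m)
    (h' : IsEck hf e m') : m = m' := by
  refine LinearMap.ext fun x => ?_
  have h1 : ∀ y, tang hf e y * (m y - m' y) = 0 := fun y => by
    linear_combination (h'.2.2 y) - (h.2.2 y)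
  by_contra hne
  obtain ⟨v, hv⟩ : ∃ v, tang hf e v = 1 := LinearMap.surjective hL 1
  have hv' : m v - m' v = 0 := by have := h1 v; rwa [hv, one_mul] at this
  have hx : tang hf e x = 0 := (mul_eq_zero.mp (h1 x)).resolve_right (sub_ne_zero.mpr hne)
  have h2 := h1 (x + v)
  rw [map_add, hx, hv, zero_add, one_mul, map_add, map_add] at h2
  exact hne (by linear_combination h2 - hv')

/-- Existence and uniqueness of the involution. -/
theorem existsUnique_inv (hsm : ∀ v : V, v ≠ 0 → eval v f = 0 → tang hf v ≠ 0) {e : V} (he : e ≠ 0)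
    {m : V →ₗ[K] K} (h : IsEck hf e m) : ∃! A, IsInv f A e := by
  refine ⟨_, isInv_refl' hf he h, fun A hA => ?_⟩
  obtain ⟨m', hm', hAx⟩ := isEck_of_isInv hf hsm he h.1 hA
  obtain rfl := isEck_unique hf (hsm e he h.1) h hm'
  exact Matrix.ext_of_mulVec_single fun i => by rw [hAx, LinearMap.toMatrix'_mulVec]

theorem inv_eq (hsm : ∀ v : V, v ≠ 0 → eval v f = 0 → tang hf v ≠ 0) {e : V} (he : e ≠ 0)
    {m : V →ₗ[K] K} (h : IsEck hf e m) {A} (hA : IsInv f A e) (x : V) : A *ᵥ x = refl' e m x := by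
  rw [(existsUnique_inv hf hsm he h).unique hA (isInv_refl' hf he h), LinearMap.toMatrix'_mulVec]

omit [IsAlgClosed K] in
/-- If the line through two Eckardt points is not on the surface, `m e' ≠ 0`. -/
theorem m_ne_zero {e e' : V} {m m' : V →ₗ[K] K} (h : IsEck hf e m) (h' : IsEck hf e' m')
    (hL : ¬ ∀ u ∈ Submodule.span K {e, e'}, eval u f = 0) :
    tang hf e e' ≠ 0 ∧ m e' ≠ 0 := by
  have hall : (∀ t : K, eval (e' + t • e) f = 0) → False := by
    intro hz
    refine hL fun u hu => ?_
    obtain ⟨a, b, rfl⟩ := Submodule.mem_span_pair.mp hu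
    by_cases hb : b = 0
    · rw [hb, zero_smul, add_zero]
      have : a • e = 0 + a • e := (zero_add _).symm
      have h0 : eval (0 : V) f = 0 := by
        have := T_self hf (0 : V)
        rw [show T f (0 : V) 0 0 = 0 by simpa using T_smul hf (0 : K) (0 : V) 0 0] at this
        linear_combination -this / 6
      rw [this, eval_shift hf h, h0, map_zero, map_zero]
      ring
    · have e1 : a • e + b • e' = b • (e' + (b⁻¹ * a) • e) := by
        rw [smul_add, smul_smul, ← mul_assoc, mul_inv_cancel₀ hb, one_mul, add_comm]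
      rw [e1]
      have hh : ∀ y : V, eval (b • y) f = b ^ 3 * eval y f := fun y => by
        have := T_self hf (b • y)
        rw [T_smul hf, T_smul₂ hf, T_smul₃ hf, T_self hf] at this
        linear_combination -this / 6
      rw [hh, hz, mul_zero]
  have h1 : tang hf e e' ≠ 0 := fun h0 => hall fun t => by
    rw [eval_shift hf h, h'.1, h0]; ring
  refine ⟨h1, fun hm => ?_⟩
  -- then `e` lies in the tangent plane of `e'`
  have h2 : tang hf e' e = 0 := by
    rw [tang_apply, T_symm23 f e' e' e, T_symm12 f e' e e', h.2.2 e', hm, mul_zero]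
  have h3 := eval_shift hf h' e (1 : K)
  have h4 := eval_shift hf h e' (1 : K)
  rw [h.1, h2] at h3
  rw [h'.1, hm] at h4
  simp only [one_smul] at h3 h4
  rw [add_comm e' e, h3] at h4
  exact h1 (by linear_combination -h4)

omit [IsAlgClosed K] in
/-- The three points on the line through two Eckardt points not on the surface. -/
theorem line_zeros {e e' : V} {m m' : V →ₗ[K] K} (h : IsEck hf e m) (h' : IsEck hf e' m')
    (hL : ¬ ∀ u ∈ Submodule.span K {e, e'}, eval u f = 0) :
    ∀ u ∈ Submodule.span K {e, e'}, eval u f = 0 →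
      u ∈ K ∙ e ∨ u ∈ K ∙ e' ∨ u ∈ K ∙ refl' e m e' := by
  intro u hu hfu
  obtain ⟨hL1, hm⟩ := m_ne_zero hf h h' hL
  obtain ⟨a, b, rfl⟩ := Submodule.mem_span_pair.mp hu
  by_cases hb : b = 0
  · left; rw [hb, zero_smul, add_zero]; exact Submodule.smul_mem _ _ (Submodule.mem_span_singleton_self e)
  by_cases ha : a = 0
  · right; left; rw [ha, zero_smul, zero_add]; exact Submodule.smul_mem _ _ (Submodule.mem_span_singleton_self e')
  · right; right
    have hh : eval (b • e') f = 0 := by
      have := T_self hf (b • e')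
      rw [T_smul hf, T_smul₂ hf, T_smul₃ hf, T_self hf, h'.1] at this
      linear_combination -this / 6
    rw [add_comm, eval_shift hf h, hh, map_smul, map_smul, smul_eq_mul, smul_eq_mul] at hfu
    have h5 : (a * b * tang hf e e') * (b * m e' + a) = 0 := by linear_combination hfu
    have h6 : b * m e' + a = 0 := (mul_eq_zero.mp h5).resolve_left (by simp [ha, hb, hL1])
    rw [eq_neg_of_add_eq_zero_right h6, Submodule.mem_span_singleton]
    exact ⟨b, by rw [refl'_apply]; module⟩

theorem three_lines_image {e' : V} {g : V →ₗ[K] V} (hg : Function.Injective g)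
    (hgf : ∀ x, eval (g x) f = eval x f)
    (hE' : ∃ U : Fin 3 → Submodule K V, Function.Injective U ∧
      ∀ i : Fin 3, finrank K ↥(U i) = 2 ∧ e' ∈ U i ∧ ∀ u ∈ U i, eval u f = 0) :
    ∃ U : Fin 3 → Submodule K V, Function.Injective U ∧
      ∀ i : Fin 3, finrank K ↥(U i) = 2 ∧ g e' ∈ U i ∧ ∀ u ∈ U i, eval u f = 0 := by
  obtain ⟨U, hU, hU'⟩ := hE'
  refine ⟨fun i => (U i).map g, (Submodule.map_injective_of_injective hg).comp hU, fun i => ⟨?_, ?_, ?_⟩⟩
  · rw [← (Submodule.equivMapOfInjective g hg (U i)).finrank_eq, (hU' i).1]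
  · exact Submodule.mem_map_of_mem (hU' i).2.1
  · rintro _ ⟨x, hx, rfl⟩
    rw [hgf]; exact (hU' i).2.2 x hx

theorem line_through_two (hsm : ∀ v : V, v ≠ 0 → eval v f = 0 → tang hf v ≠ 0)
    {e e' : V} (he : e ≠ 0) (he' : e' ∉ Submodule.span K {e})
    (hE : ∃ U : Fin 3 → Submodule K V, Function.Injective U ∧
      ∀ i : Fin 3, finrank K ↥(U i) = 2 ∧ e ∈ U i ∧ ∀ u ∈ U i, eval u f = 0)
    (hE' : ∃ U : Fin 3 → Submodule K V, Function.Injective U ∧
      ∀ i : Fin 3, finrank K ↥(U i) = 2 ∧ e' ∈ U i ∧ ∀ u ∈ U i, eval u f = 0) :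
    Xor (∀ u ∈ Submodule.span K {e, e'}, eval u f = 0)
      (∃ e'' : V, e'' ∈ Submodule.span K {e, e'} ∧ e'' ∉ Submodule.span K {e} ∧ e'' ∉ Submodule.span K {e'} ∧
        (∃ U : Fin 3 → Submodule K V, Function.Injective U ∧
          ∀ i : Fin 3, finrank K ↥(U i) = 2 ∧ e'' ∈ U i ∧ ∀ u ∈ U i, eval u f = 0) ∧
        ∀ u ∈ Submodule.span K {e, e'}, eval u f = 0 →
          u ∈ Submodule.span K {e} ∨ u ∈ Submodule.span K {e'} ∨ u ∈ Submodule.span K {e''}) := by
  have hee : e ∈ Submodule.span K {e, e'} := Submodule.subset_span (by simp)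
  have hee' : e' ∈ Submodule.span K {e, e'} := Submodule.subset_span (by simp)
  have he0 : e' ≠ 0 := fun h => he' (h ▸ zero_mem _)
  have hindep : ∀ a b : K, a • e + b • e' = 0 → a = 0 ∧ b = 0 := by
    intro a b hab
    have hb : b = 0 := by
      by_contra hb
      refine he' (Submodule.mem_span_singleton.mpr ⟨-(b⁻¹ * a), ?_⟩)
      have h3 := congrArg (fun z => b⁻¹ • z) hab
      simp [smul_smul, hb] at h3
      rw [neg_smul]
      exact (neg_eq_of_add_eq_zero_right h3)
    rw [hb, zero_smul, add_zero] at hab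
    exact ⟨(smul_eq_zero.mp hab).resolve_right he, hb⟩
  by_cases hL : ∀ u ∈ Submodule.span K {e, e'}, eval u f = 0
  · refine Or.inl ⟨hL, ?_⟩
    rintro ⟨e'', he''L, h1, h2, -, h3⟩
    obtain ⟨a, b, rfl⟩ := Submodule.mem_span_pair.mp he''L
    have hb : b ≠ 0 := fun h => h1 (Submodule.mem_span_singleton.mpr ⟨a, by simp [h]⟩)
    have ha : a ≠ 0 := fun h => h2 (Submodule.mem_span_singleton.mpr ⟨b, by simp [h]⟩)
    have hu : (2 * a) • e + b • e' ∈ Submodule.span K {e, e'} :=
      add_mem (Submodule.smul_mem _ _ hee) (Submodule.smul_mem _ _ hee')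
    rcases h3 _ hu (hL _ hu) with h4 | h4 | h4 <;> obtain ⟨c, hc⟩ := Submodule.mem_span_singleton.mp h4
    · exact hb (neg_eq_zero.mp (hindep (c - 2 * a) (-b) (by
        linear_combination (norm := module) hc)).2)
    · exact ha (by simpa using (hindep (-(2 * a)) (c - b) (by linear_combination (norm := module) hc)).1)
    · obtain ⟨h5, h6⟩ := hindep (c * a - 2 * a) (c * b - b) (by linear_combination (norm := module) hc)
      have hc1 : c = 1 := by
        have : (c - 1) * b = 0 := by linear_combination h6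
        exact sub_eq_zero.mp ((mul_eq_zero.mp this).resolve_right hb)
      rw [hc1] at h5
      exact ha (by linear_combination -h5)
  · refine Or.inr ⟨?_, hL⟩
    obtain ⟨m, hm⟩ := isEck_of_three_lines hf hsm he hE
    obtain ⟨m', hm'⟩ := isEck_of_three_lines hf hsm he0 hE'
    obtain ⟨hL1, hm0⟩ := m_ne_zero hf hm hm' hL
    refine ⟨refl' e m e', ?_, ?_, ?_,
      three_lines_image hf (fun x y hxy => by
        have := congrArg (refl' e m) hxy
        rwa [refl'_refl' hm.2.1, refl'_refl' hm.2.1] at this) (eval_refl' hf hm) hE',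
      line_zeros hf hm hm' hL⟩
    · rw [refl'_apply]; exact sub_mem hee' (Submodule.smul_mem _ _ hee)
    · rw [refl'_apply]
      intro h
      obtain ⟨c, hc⟩ := Submodule.mem_span_singleton.mp h
      exact one_ne_zero (neg_eq_zero.mp (hindep (c + m e') (-1) (by linear_combination (norm := module) hc)).2)
    · rw [refl'_apply]
      intro h
      obtain ⟨c, hc⟩ := Submodule.mem_span_singleton.mp h
      exact hm0 (hindep (m e') (c - 1) (by linear_combination (norm := module) hc)).1

omit hf [CharZero K] [IsAlgClosed K] in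
lemma refl'_conj (e e' : V) (m m' : V →ₗ[K] K) (he : m e = 2) (x : V) :
    refl' e m (refl' e' m' (refl' e m x)) = refl' (refl' e m e') (m'.comp (refl' e m)) x := by
  rw [refl'_apply e' m', map_sub, map_smul, refl'_refl' he, refl'_apply (refl' e m e'), LinearMap.comp_apply]

theorem dihedral (hsm : ∀ v : V, v ≠ 0 → eval v f = 0 → tang hf v ≠ 0)
    {e e' e'' : V} (he : e ≠ 0) (he' : e' ∉ Submodule.span K {e})
    (he''1 : e'' ∉ Submodule.span K {e}) (he''2 : e'' ∉ Submodule.span K {e'})
    (he''L : e'' ∈ Submodule.span K {e, e'})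
    (hE : ∃ U : Fin 3 → Submodule K V, Function.Injective U ∧
      ∀ i : Fin 3, finrank K ↥(U i) = 2 ∧ e ∈ U i ∧ ∀ u ∈ U i, eval u f = 0)
    (hE' : ∃ U : Fin 3 → Submodule K V, Function.Injective U ∧
      ∀ i : Fin 3, finrank K ↥(U i) = 2 ∧ e' ∈ U i ∧ ∀ u ∈ U i, eval u f = 0)
    (hfe'' : eval e'' f = 0)
    (hL : ¬ ∀ u ∈ Submodule.span K {e, e'}, eval u f = 0)
    {A A' A'' : Matrix (Fin 4) (Fin 4) K} (hA : IsInv f A e) (hA' : IsInv f A' e') (hA'' : IsInv f A'' e'') :
    (¬ ∃ c : K, A * A' = c • (1 : Matrix (Fin 4) (Fin 4) K)) ∧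
      (∃ c : K, (A * A') ^ 3 = c • (1 : Matrix (Fin 4) (Fin 4) K)) ∧ ∃ c : K, A'' = c • (A * A' * A) := by
  have he0 : e' ≠ 0 := fun h => he' (h ▸ zero_mem _)
  have he'' : e'' ≠ 0 := fun h => he''1 (h ▸ zero_mem _)
  obtain ⟨m, hm⟩ := isEck_of_three_lines hf hsm he hE
  obtain ⟨m', hm'⟩ := isEck_of_three_lines hf hsm he0 hE'
  obtain ⟨m'', hm'', hAx''⟩ := isEck_of_isInv hf hsm he'' hfe'' hA''
  have hAx := inv_eq hf hsm he hm hA
  have hAx' := inv_eq hf hsm he0 hm' hA'
  -- conjugation gives the third involution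
  have key : ∀ {a b : V} {ma mb : V →ₗ[K] K} {P Q : Matrix (Fin 4) (Fin 4) K}, IsEck hf a ma → IsEck hf b mb →
      a ≠ 0 → (∀ x, P *ᵥ x = refl' a ma x) → (∀ x, Q *ᵥ x = refl' b mb x) →
      e'' ∈ Submodule.span K {a, b} → e'' ∉ K ∙ a → e'' ∉ K ∙ b →
      (¬ ∀ u ∈ Submodule.span K {a, b}, eval u f = 0) → A'' = P * Q * P := by
    intro a b ma mb P Q hma hmb ha0 hP hQ hmem h1 h2 hLab
    obtain ⟨c, hc⟩ := Submodule.mem_span_singleton.mp
      (((line_zeros hf hma hmb hLab e'' hmem hfe'').resolve_left h1).resolve_left h2)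
    have hc0 : c ≠ 0 := fun h => he'' (by rw [← hc, h, zero_smul])
    have heck : IsEck hf e'' (c⁻¹ • mb.comp (refl' a ma)) := by
      have hev : ∀ x : V, ∀ t : K, eval (x + t • refl' a ma b) f =
          eval x f + t * (tang hf b (refl' a ma x) * mb (refl' a ma x)) + t ^ 2 * tang hf b (refl' a ma x) := by
        intro x t
        rw [← eval_refl' hf hma, map_add, map_smul, refl'_refl' hma.2.1, eval_shift hf hmb, eval_refl' hf hma]
      refine ⟨hfe'', ?_, fun x => ?_⟩
      · rw [← hc]
        simp [refl'_refl' hma.2.1, hmb.2.1, hc0]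
      · have h1' : ∀ t : K, eval (x + t • e'') f =
            eval x f + t * (T f x x e'' / 2) + t ^ 2 * (T f x e'' e'' / 2) + t ^ 3 * eval e'' f := fun t => eval_line hf x e'' t
        have h2' : ∀ t : K, eval (x + t • e'') f = eval x f + (t * c) * (tang hf b (refl' a ma x) * mb (refl' a ma x))
            + (t * c) ^ 2 * tang hf b (refl' a ma x) := fun t => by
          rw [← hc, smul_smul]; exact hev x (t * c)
        obtain ⟨-, k1, k2, -⟩ := coeff_zero (A := (0 : K))
          (B := T f x x e'' / 2 - c * (tang hf b (refl' a ma x) * mb (refl' a ma x)))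
          (C := T f x e'' e'' / 2 - c ^ 2 * tang hf b (refl' a ma x)) (D := eval e'' f)
          (fun t => by linear_combination (h2' t) - (h1' t))
        rw [T_symm12 f e'' x x, T_symm23 f x e'' x, sub_eq_zero.mp k1, tang_apply hf e'' x,
          T_symm23 f e'' e'' x, T_symm12 f e'' x e'', sub_eq_zero.mp k2]
        simp only [LinearMap.smul_apply, LinearMap.comp_apply, smul_eq_mul]
        field_simp
    have hm''eq := isEck_unique hf (hsm e'' he'' hfe'') hm'' heck
    refine Matrix.ext_of_mulVec_single fun i => ?_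
    rw [hAx'', hm''eq, ← Matrix.mulVec_mulVec, ← Matrix.mulVec_mulVec, hP, hQ, hP, refl'_conj a b ma mb hma.2.1]
    generalize (Pi.single i 1 : V) = x
    rw [refl'_apply e'', refl'_apply (refl' a ma b), ← hc]
    simp only [LinearMap.smul_apply, smul_eq_mul, smul_smul]
    field_simp
  have k1 : A'' = A * A' * A := key hm hm' he hAx hAx' he''L he''1 he''2 hL
  have hswap : Submodule.span K {e', e} = Submodule.span K {e, e'} := by rw [Set.pair_comm]
  have k2 : A'' = A' * A * A' := key hm' hm he0 hAx' hAx (by rw [hswap]; exact he''L) he''2 he''1 (by rw [hswap]; exact hL)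
  refine ⟨?_, ⟨1, ?_⟩, ⟨1, by rw [one_smul, k1]⟩⟩
  · rintro ⟨c, hc⟩
    have h1 := congrArg (fun M => M *ᵥ e') hc
    simp only [← Matrix.mulVec_mulVec, hA'.2.2.1, Matrix.mulVec_neg, Matrix.smul_mulVec,
      Matrix.one_mulVec, hAx, refl'_apply, map_neg] at h1
    have hm0 := (m_ne_zero hf hm hm' hL).2
    refine he' (Submodule.mem_span_singleton.mpr ?_)
    by_cases hc1 : c = -1
    · exfalso
      subst hc1
      have h2 : m e' • e = 0 := by linear_combination (norm := module) h1
      exact hm0 ((smul_eq_zero.mp h2).resolve_right he)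
    · refine ⟨(1 + c)⁻¹ * m e', ?_⟩
      have hne : (1 : K) + c ≠ 0 := fun h => hc1 (by linear_combination h)
      have h2 : (1 + c) • e' = m e' • e := by linear_combination (norm := module) -h1
      rw [← smul_smul, ← h2, smul_smul, inv_mul_cancel₀ hne, one_smul]
  · rw [one_smul, show (A * A') ^ 3 = (A * A' * A) * (A' * A * A') by noncomm_ring, ← k1, ← k2, hA''.1]

end Groth.Agent.CubicH28
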