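import Mathlib
import Groth.Agent.Lib.CubicH28.Invol
import Groth.Agent.Lib.TsenLang.Basic
import Groth.Prelude.Def_W4c5monodromycubicsHesse

/-!
Flexes of smooth plane cubics and the Hesse normal form.
-/

namespace Groth.Agent.CubicH28

open MvPolynomial Module Matrix

variable {K : Type*} [Field K] [CharZero K] [IsAlgClosed K]

local notation "W" => (Fin 3 → K)

variable {f : MvPolynomial (Fin 3) K} (hf : f.IsHomogeneous 3)
include hf

/-- Tangent form of a plane cubic. -/
noncomputable def tang3 (e : W) : W →ₗ[K] K where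
  toFun x := T f e e x / 2
  map_add' x y := by rw [T_add₃ hf]; ring
  map_smul' r x := by rw [T_smul₃ hf, RingHom.id_apply, smul_eq_mul]; ring

omit [IsAlgClosed K] in
lemma tang3_apply (e x : W) : tang3 hf e x = T f e e x / 2 := rfl

omit [IsAlgClosed K] in
lemma tang3_ne_zero_of_jacobian
    (hsm : ∀ v : W, v ≠ 0 → eval v f = 0 → ∃ i : Fin 3, eval v (pderiv i f) ≠ 0) :
    ∀ v : W, v ≠ 0 → eval v f = 0 → tang3 hf v ≠ 0 := by
  intro v hv hfv h
  obtain ⟨i, hi⟩ := hsm v hv hfv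
  apply hi
  have h1 := pderiv_eq hf v (Pi.single i (1 : K))
  have h2 : T f v v (Pi.single i (1 : K)) / 2 = 0 := LinearMap.congr_fun h _
  rw [h2] at h1
  simpa [Pi.single_apply] using h1

/-- Flex: some line meets with multiplicity three. -/
def IsFlex (f : MvPolynomial (Fin 3) K) (v : W) : Prop :=
  ∃ w : W, LinearIndependent K ![v, w] ∧ ∀ t : K, eval (v + t • w) f = t ^ 3 * eval w f

omit [IsAlgClosed K] in
lemma flex_cond {v : W} (hv : IsFlex f v) : eval v f = 0 ∧ ∃ w, LinearIndependent K ![v, w] ∧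
    T f v v w = 0 ∧ T f v w w = 0 := by
  obtain ⟨w, hw, ht⟩ := hv
  obtain ⟨h1, h2, h3, -⟩ := coeff_zero (A := eval v f) (B := T f v v w / 2) (C := T f v w w / 2) (D := (0 : K))
    (fun t => by linear_combination (ht t) - (eval_line hf v w t))
  exact ⟨h1, w, hw, by linear_combination 2 * h2, by linear_combination 2 * h3⟩

/-- The matrix of the polar quadratic form. -/
noncomputable def hess (f : MvPolynomial (Fin 3) K) (v : W) : Matrix (Fin 3) (Fin 3) K :=
  Matrix.of fun i j => T f v (Pi.single i 1) (Pi.single j 1)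

omit [CharZero K] [IsAlgClosed K] in
lemma hess_mulVec (v u x : W) : x ⬝ᵥ (hess f v *ᵥ u) = T f v x u := by
  have hx : x = x 0 • Pi.single 0 (1 : K) + x 1 • Pi.single 1 (1 : K) + x 2 • Pi.single 2 (1 : K) := by
    ext i; fin_cases i <;> simp
  have hu : u = u 0 • Pi.single 0 (1 : K) + u 1 • Pi.single 1 (1 : K) + u 2 • Pi.single 2 (1 : K) := by
    ext i; fin_cases i <;> simp
  conv_rhs => rw [hx, hu]
  simp only [T_add₂ hf, T_add₃ hf, T_smul₂ hf, T_smul₃ hf]
  simp [hess, Matrix.mulVec, dotProduct, Fin.sum_univ_three]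
  ring

omit [IsAlgClosed K] in
theorem flex_of_det {v : W} (hfv : eval v f = 0) (hL : tang3 hf v ≠ 0) (hdet : (hess f v).det = 0) :
    IsFlex f v := by
  obtain ⟨u, hu, hMu⟩ := exists_mulVec_eq_zero_iff.mpr hdet
  have hker : ∀ x, T f v x u = 0 := fun x => by rw [← hess_mulVec hf, hMu, dotProduct_zero]
  refine ⟨u, ?_, fun t => ?_⟩
  · rw [LinearIndependent.pair_iff]
    intro a b hab
    have hb : b = 0 := by
      by_contra hb
      refine hL (LinearMap.ext fun x => ?_)
      have h1 := hker x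
      have hu' : b • u = -(a • v) := eq_neg_of_add_eq_zero_right hab
      have h2 : T f v x (b • u) = 0 := by rw [T_smul₃ hf, h1, mul_zero]
      rw [hu', ← neg_smul, T_smul₃ hf, T_symm23 f v x v] at h2
      rcases mul_eq_zero.mp h2 with h3 | h3
      · exfalso
        rw [neg_eq_zero.mp h3, zero_smul, neg_zero] at hu'
        exact hu ((smul_eq_zero.mp hu').resolve_left hb)
      · rw [tang3_apply, h3, zero_div, LinearMap.zero_apply]
    rw [hb, zero_smul, add_zero] at hab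
    refine ⟨(smul_eq_zero.mp hab).resolve_right fun hv0 => hL (LinearMap.ext fun x => ?_), hb⟩
    rw [tang3_apply, hv0, show (0 : W) = (0 : K) • (0 : W) by simp, T_smul hf]
    simp
  · rw [eval_line hf, hfv, hker v, hker u]; ring

omit [IsAlgClosed K] in
theorem det_of_flex {v : W} (hv : IsFlex f v) : (hess f v).det = 0 := by
  obtain ⟨hfv, w, hw, h1, h2⟩ := flex_cond hf hv
  have hA : ∀ x ∈ Submodule.span K {v, w}, T f v v x = 0 := by
    intro x hx
    obtain ⟨a, b, rfl⟩ := Submodule.mem_span_pair.mp hx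
    rw [T_add₃ hf, T_smul₃ hf, T_smul₃ hf, T_self hf, hfv, h1]; ring
  by_contra hdet
  -- both `H v` and `H w` kill the plane
  let M := hess f v
  have k1 : ∀ x ∈ Submodule.span K {v, w}, x ⬝ᵥ (M *ᵥ v) = 0 := fun x hx => by
    rw [hess_mulVec hf, T_symm23 f v x v]; exact hA x hx
  have k2 : ∀ x ∈ Submodule.span K {v, w}, x ⬝ᵥ (M *ᵥ w) = 0 := by
    intro x hx
    obtain ⟨a, b, rfl⟩ := Submodule.mem_span_pair.mp hx
    rw [hess_mulVec hf, T_add₂ hf, T_smul₂ hf, T_smul₂ hf, h1, h2]; ring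
  let Φ : W →ₗ[K] (Fin 2 → K) :=
    { toFun := fun y => ![v ⬝ᵥ y, w ⬝ᵥ y]
      map_add' := fun y z => by ext i; fin_cases i <;> simp [dotProduct_add]
      map_smul' := fun r y => by ext i; fin_cases i <;> simp [dotProduct_smul] }
  have hsurj : Function.Surjective Φ := by
    let N : Matrix (Fin 2) (Fin 3) K := Matrix.of ![v, w]
    have hrank : N.rank = 2 := by
      have : LinearIndependent K N.row := hw
      rw [this.rank_matrix, Fintype.card_fin]
    rw [← LinearMap.range_eq_top]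
    refine Submodule.eq_top_of_finrank_eq ?_
    have hΦ : Φ = N.mulVecLin := by
      refine LinearMap.ext fun y => ?_
      ext i
      fin_cases i <;> simp [Φ, N, Matrix.mulVec]
    rw [hΦ]
    simpa [Matrix.rank] using hrank
  have hker : finrank K (LinearMap.ker Φ) = 1 := by
    have := LinearMap.finrank_range_add_finrank_ker Φ
    rw [LinearMap.range_eq_top.mpr hsurj, finrank_top] at this
    simp at this
    omega
  have hmem : ∀ y : W, (∀ x ∈ Submodule.span K {v, w}, x ⬝ᵥ y = 0) → y ∈ LinearMap.ker Φ := fun y hy => by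
    ext i; fin_cases i
    · exact hy v (Submodule.subset_span (by simp))
    · exact hy w (Submodule.subset_span (by simp))
  have hli : LinearIndependent K ![(⟨M *ᵥ v, hmem _ k1⟩ : LinearMap.ker Φ), ⟨M *ᵥ w, hmem _ k2⟩] := by
    rw [LinearIndependent.pair_iff]
    intro a b hab
    have h3 : M *ᵥ (a • v + b • w) = 0 := by
      rw [Matrix.mulVec_add, Matrix.mulVec_smul, Matrix.mulVec_smul]
      exact congrArg Subtype.val hab
    have h4 : a • v + b • w = 0 := by
      by_contra hne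
      exact hdet (exists_mulVec_eq_zero_iff.mp ⟨_, hne, h3⟩)
    exact LinearIndependent.pair_iff.mp hw a b h4
  have := hli.fintype_card_le_finrank
  rw [hker] at this
  simp at this

theorem exists_flex (hsm : ∀ v : W, v ≠ 0 → eval v f = 0 → tang3 hf v ≠ 0) :
    ∃ v, v ≠ 0 ∧ eval v f = 0 ∧ IsFlex f v := by
  classical
  let E : Fin 3 → Fin 3 → MvPolynomial (Fin 3) K := fun i j =>
    ∑ l, C (T f (Pi.single l 1) (Pi.single i 1) (Pi.single j 1)) * X l
  have hE : ∀ i j v, eval v (E i j) = hess f v i j := by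
    intro i j v
    have hv : v = v 0 • Pi.single 0 (1 : K) + v 1 • Pi.single 1 (1 : K) + v 2 • Pi.single 2 (1 : K) := by
      ext i; fin_cases i <;> simp
    show _ = T f v _ _
    conv_rhs => rw [hv]
    simp only [T_add hf, T_smul hf]
    simp [E, Fin.sum_univ_three]
    ring
  let H : MvPolynomial (Fin 3) K := (Matrix.of E).det
  have hH : H.IsHomogeneous 3 := by
    show ((Matrix.of E).det).IsHomogeneous 3
    rw [Matrix.det_apply']
    refine IsHomogeneous.sum _ _ _ fun σ _ => ?_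
    rw [show ((Equiv.Perm.sign σ : ℤ) : MvPolynomial (Fin 3) K) = C ((Equiv.Perm.sign σ : ℤ) : K) by rw [map_intCast]]
    refine IsHomogeneous.C_mul ?_ _
    have := IsHomogeneous.prod (Finset.univ : Finset (Fin 3)) (fun i => Matrix.of E (σ i) i) (fun _ => 1)
      (fun i _ => show (E (σ i) i).IsHomogeneous 1 from
        IsHomogeneous.sum _ _ _ fun l _ => (isHomogeneous_X K l).C_mul _)
    simpa using this
  obtain ⟨v, hv, h⟩ := Groth.Agent.TsenLang.exists_zero_of_isCi Groth.Agent.TsenLang.isCi_zero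
    ![f, H] (fun _ => 3) (fun r => by fin_cases r <;> simp [hf, hH]) (fun _ => by norm_num) (by simp)
  refine ⟨v, hv, h 0, flex_of_det hf (h 0) (hsm v hv (h 0)) ?_⟩
  have h1 : eval v H = 0 := h 1
  have h2 : eval v H = (hess f v).det := by
    show eval v (Matrix.of E).det = _
    rw [RingHom.map_det]
    congr 1
    ext i j
    exact hE i j v
  rw [← h2, h1]

/-- A smooth plane cubic contains no line. -/
theorem no_line (hsm : ∀ v : W, v ≠ 0 → eval v f = 0 → tang3 hf v ≠ 0) {v w : W}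
    (hind : LinearIndependent K ![v, w]) (hz : ∀ a b : K, eval (a • v + b • w) f = 0) : False := by
  have hzero : ∀ s t a b : K, T f (s • v + t • w) (s • v + t • w) (a • v + b • w) = 0 := by
    intro s t a b
    obtain ⟨-, h2, -, -⟩ := line_cond hf (a • v + b • w) (s • v + t • w) (fun r => by
      have e : s • v + t • w + r • (a • v + b • w) = (s + r * a) • v + (t + r * b) • w := by module
      rw [e]; exact hz _ _)
    exact h2
  obtain ⟨x₀, hx₀⟩ : ∃ x₀ : W, x₀ ∉ Submodule.span K {v, w} := by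
    by_contra hcon
    push Not at hcon
    have h1 := Submodule.finrank_mono (show (⊤ : Submodule K W) ≤ Submodule.span K {v, w} from fun x _ => hcon x)
    have h2 := finrank_span_eq_card hind
    rw [Matrix.range_cons, Matrix.range_cons, Matrix.range_empty, Set.union_empty, ← Set.insert_eq, Fintype.card_fin] at h2
    rw [h2] at h1
    simp at h1
  obtain ⟨s, t, hst, hq⟩ := exists_quad_root (T f v v x₀) (2 * T f v w x₀) (T f w w x₀)
  have hne : s • v + t • w ≠ 0 := fun h0 => by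
    have := LinearIndependent.pair_iff.mp hind s t h0
    rcases hst with h | h
    · exact h this.1
    · exact h this.2
  refine hsm _ hne (hz s t) (LinearMap.ext fun x => ?_)
  have hli : LinearIndependent K ![x₀, v, w] := by
    refine linearIndependent_fin_cons.mpr ⟨hind, ?_⟩
    rw [Matrix.range_cons, Matrix.range_cons, Matrix.range_empty, Set.union_empty, ← Set.insert_eq]
    exact hx₀
  have hx : x ∈ Submodule.span K (Set.range ![x₀, v, w]) := by
    rw [hli.span_eq_top_of_card_eq_finrank (by simp)]; trivial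
  obtain ⟨g, rfl⟩ := (Submodule.mem_span_range_iff_exists_fun K).mp hx
  rw [tang3_apply, LinearMap.zero_apply, Fin.sum_univ_three]
  simp only [Matrix.cons_val_zero, Matrix.cons_val_one, Matrix.cons_val]
  rw [add_assoc, T_add₃ hf, T_smul₃ hf, hzero s t (g 1) (g 2)]
  have h0 : T f (s • v + t • w) (s • v + t • w) x₀ = 0 := by
    simp only [T_add hf, T_add₂ hf, T_smul hf, T_smul₂ hf]
    rw [T_symm12 f w v]
    linear_combination hq
  rw [h0]; ring

/-- Weierstrass coordinates. -/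
theorem weierstrass (hsm : ∀ v : W, v ≠ 0 → eval v f = 0 → tang3 hf v ≠ 0) :
    ∃ (P : W ≃ₗ[K] W) (a b c : K), c ≠ 0 ∧ ∀ X Y Z : K,
      eval (P ![X, Y, Z]) f = c * (Y ^ 2 * Z - (X ^ 3 + a * X * Z ^ 2 + b * Z ^ 3)) := by
  obtain ⟨v, hv, hfv, hflex⟩ := exists_flex hf hsm
  obtain ⟨-, w, hind, h1, h2⟩ := flex_cond hf hflex
  obtain ⟨z, hz⟩ : ∃ z, tang3 hf v z = 1 := LinearMap.surjective (hsm v hv hfv) 1
  have hfw : eval w f ≠ 0 := by
    intro h0
    refine no_line hf hsm hind fun a b => ?_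
    have hs : ∀ (r : K) (y : W), eval (r • y) f = r ^ 3 * eval y f := fun r y => by
      have := T_self hf (r • y)
      rw [T_smul hf, T_smul₂ hf, T_smul₃ hf, T_self hf] at this
      linear_combination -this / 6
    rw [eval_line hf, hs a, hfv, h0, T_smul hf, T_smul₂ hf, h1, T_smul hf, h2]
    ring
  obtain ⟨C', hC, hC0⟩ : ∃ C', C' = -eval w f ∧ C' ≠ 0 := ⟨_, rfl, neg_ne_zero.mpr hfw⟩
  obtain ⟨ρ, hρ, hρ0⟩ : ∃ ρ : K, ρ ^ 2 = C' ∧ ρ ≠ 0 := by
    obtain ⟨ρ, hρ⟩ := IsAlgClosed.exists_pow_nat_eq C' (show 0 < 2 by norm_num)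
    exact ⟨ρ, hρ, fun h => hC0 (by rw [← hρ, h]; ring)⟩
  have hexp : ∀ X Y Z : K, eval (Y • v + X • w + Z • z) f = Y ^ 2 * Z + T f v w z * (X * Y * Z)
      + T f v z z / 2 * (Y * Z ^ 2) + eval w f * X ^ 3 + T f w w z / 2 * (X ^ 2 * Z)
      + T f w z z / 2 * (X * Z ^ 2) + eval z f * Z ^ 3 := by
    intro X Y Z
    have hz' : T f v v z = 2 := by rw [tang3_apply] at hz; linear_combination 2 * hz
    have hs : ∀ (r : K) (y : W), eval (r • y) f = r ^ 3 * eval y f := fun r y => by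
      have := T_self hf (r • y)
      rw [T_smul hf, T_smul₂ hf, T_smul₃ hf, T_self hf] at this
      linear_combination -this / 6
    have e1 : eval (Y • v + X • w) f = X ^ 3 * eval w f := by
      rw [eval_line hf, hs Y, hfv, T_smul hf, T_smul₂ hf, h1, T_smul hf, h2]
      ring
    rw [eval_line hf (Y • v + X • w) z Z, e1]
    simp only [T_add hf, T_add₂ hf, T_smul hf, T_smul₂ hf]
    rw [T_symm12 f w v z, hz']
    ring
  obtain ⟨c1, hc1⟩ : ∃ c1, c1 = T f v w z := ⟨_, rfl⟩
  obtain ⟨c2, hc2⟩ : ∃ c2, c2 = T f v z z / 2 := ⟨_, rfl⟩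
  obtain ⟨d, hd⟩ : ∃ d, d = T f w w z / 2 := ⟨_, rfl⟩
  obtain ⟨e', he'⟩ : ∃ e', e' = T f w z z / 2 := ⟨_, rfl⟩
  obtain ⟨g, hg⟩ : ∃ g, g = eval z f := ⟨_, rfl⟩
  simp only [← hc1, ← hc2, ← hd, ← he', ← hg] at hexp
  obtain ⟨sX, hsX⟩ : ∃ sX, sX = (d - c1 ^ 2 / 4) / (3 * C') := ⟨_, rfl⟩
  let Pm : W →ₗ[K] W :=
    { toFun := fun u => (ρ * u 1 - (c1 * (u 0 + sX * u 2) + c2 * u 2) / 2) • v
        + (u 0 + sX * u 2) • w + u 2 • z
      map_add' := fun u u' => by simp only [Pi.add_apply]; module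
      map_smul' := fun r u => by simp only [Pi.smul_apply, smul_eq_mul, RingHom.id_apply]; module }
  have hinj : Function.Injective Pm := by
    rw [injective_iff_map_eq_zero]
    intro u hu
    have hu' : (ρ * u 1 - (c1 * (u 0 + sX * u 2) + c2 * u 2) / 2) • v
        + (u 0 + sX * u 2) • w + u 2 • z = 0 := hu
    have h3 := congrArg (tang3 hf v) hu'
    simp only [map_add, map_smul, map_zero, smul_eq_mul, hz] at h3
    rw [tang3_apply, tang3_apply, T_self hf, hfv, h1] at h3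
    have hu2 : u 2 = 0 := by linear_combination h3
    rw [hu2, zero_smul, add_zero, mul_zero, mul_zero, add_zero, add_zero] at hu'
    obtain ⟨q1, q2⟩ := LinearIndependent.pair_iff.mp hind _ _ hu'
    rw [q2] at q1
    have hu1 : u 1 = 0 := (mul_eq_zero.mp (show ρ * u 1 = 0 by linear_combination q1)).resolve_left hρ0
    ext i; fin_cases i <;> simp [hu1, hu2, q2]
  refine ⟨LinearEquiv.ofInjectiveEndo Pm hinj, (3 * C' * sX ^ 2 - 2 * (d - c1 ^ 2 / 4) * sX - (e' - c1 * c2 / 2)) / C',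
    (C' * sX ^ 3 - (d - c1 ^ 2 / 4) * sX ^ 2 - (e' - c1 * c2 / 2) * sX - (g - c2 ^ 2 / 4)) / C', C', hC0, fun X Y Z => ?_⟩
  rw [LinearEquiv.coe_ofInjectiveEndo]
  simp only [Pm, LinearMap.coe_mk, AddHom.coe_mk, Matrix.cons_val_zero, Matrix.cons_val_one, Matrix.cons_val]
  rw [hexp, show eval w f = -C' by rw [hC]; ring]
  have hs3 : 3 * C' * sX = d - c1 ^ 2 / 4 := by rw [hsX]; field_simp
  field_simp
  linear_combination (16 * Z * Y ^ 2) * hρ - (16 * X ^ 2 * Z) * hs3

/-- Hesse normal form. -/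
theorem hesse_form (hsm : ∀ v : W, v ≠ 0 → eval v f = 0 → tang3 hf v ≠ 0) :
    ∃ (P : W ≃ₗ[K] W) (k c : K), k ^ 3 ≠ 1 ∧ c ≠ 0 ∧ ∀ x, eval (P x) f = c * eval x (HesseCubic.form k) := by
  obtain ⟨P, a, b, c, hc, hP⟩ := weierstrass hf hsm
  have hsing : ∀ y : W, y ≠ 0 → eval (P y) f = 0 →
      (∀ x, ∃ M : K, ∀ t : K, eval (P (y + t • x)) f = t ^ 2 * (M + t * eval (P x) f)) → False := by
    intro y hy hy0 hq
    refine hsm _ (fun h => hy (P.injective (h.trans (map_zero P).symm))) hy0 (LinearMap.ext fun x => ?_)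
    obtain ⟨M, hM⟩ := hq (P.symm x)
    simp only [map_add, map_smul, LinearEquiv.apply_symm_apply] at hM
    obtain ⟨-, h2, -, -⟩ := coeff_zero (A := eval (P y) f) (B := T f (P y) (P y) x / 2)
      (C := T f (P y) x x / 2 - M) (D := (0 : K))
      (fun t => by linear_combination (hM t) - (eval_line hf (P y) x t))
    rw [tang3_apply, h2, LinearMap.zero_apply]
  have hab : a ≠ 0 ∨ b ≠ 0 := by
    by_contra hcon
    push Not at hcon
    refine hsing ![0, 0, 1] (by simp) (by rw [hP, hcon.1, hcon.2]; ring) fun x => ⟨c * (x 1 ^ 2), fun t => ?_⟩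
    have e : (![0, 0, 1] : W) + t • x = ![t * x 0, t * x 1, 1 + t * x 2] := by
      ext i; fin_cases i <;> simp
    have ex : P x = P ![x 0, x 1, x 2] := by congr 1; ext i; fin_cases i <;> rfl
    rw [e, hP, ex, hP, hcon.1, hcon.2]; ring
  obtain ⟨l, hl0, hl⟩ : ∃ l : K, l ≠ 0 ∧ l ^ 8 + 18 * a * l ^ 4 + 108 * b * l ^ 2 - 27 * a ^ 2 = 0 := by
    by_cases ha : a = 0
    · have hb : b ≠ 0 := hab.resolve_left (not_not.mpr ha)
      obtain ⟨l, hl⟩ := IsAlgClosed.exists_pow_nat_eq (-(108 * b)) (show 0 < 6 by norm_num)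
      refine ⟨l, fun h => hb ?_, by rw [ha]; linear_combination l ^ 2 * hl⟩
      rw [h] at hl; linear_combination hl / 108
    · have hdeg : (Polynomial.X ^ 8 + Polynomial.C (18 * a) * Polynomial.X ^ 4 + Polynomial.C (108 * b) * Polynomial.X ^ 2
          - Polynomial.C (27 * a ^ 2) : Polynomial K).degree ≠ 0 := by
        have : (Polynomial.X ^ 8 + Polynomial.C (18 * a) * Polynomial.X ^ 4 + Polynomial.C (108 * b) * Polynomial.X ^ 2
          - Polynomial.C (27 * a ^ 2) : Polynomial K).degree = (8 : ℕ) := by compute_degree!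
        rw [this]; norm_num
      obtain ⟨l, hl⟩ := IsAlgClosed.exists_root _ hdeg
      simp [Polynomial.IsRoot] at hl
      refine ⟨l, fun h => ha ?_, by linear_combination hl⟩
      rw [h] at hl; simpa using hl
  obtain ⟨x0, hx0⟩ : ∃ x0, x0 = l ^ 2 / 3 := ⟨_, rfl⟩
  obtain ⟨y0, hy0⟩ : ∃ y0, y0 = (a + l ^ 4 / 3) / (2 * l) := ⟨_, rfl⟩
  -- the three tangent lines and the line through three flexes
  have hid : ∀ X Y Z : K, Y ^ 2 * Z - (X ^ 3 + a * X * Z ^ 2 + b * Z ^ 3) =
      -(X - x0 * Z) ^ 3 + Z * (Y - (y0 * Z + l * (X - x0 * Z))) * (Y + (y0 * Z + l * (X - x0 * Z))) := by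
    intro X Y Z
    rw [hx0, hy0]
    field_simp
    linear_combination (-(Z ^ 3)) * hl
  -- coordinates `u = Z`, `v = Y - T`, `w = Y + T`
  obtain ⟨α, hα⟩ : ∃ α, α = y0 / l := ⟨_, rfl⟩
  obtain ⟨γ, hγ⟩ : ∃ γ, γ = 1 / (2 * l) := ⟨_, rfl⟩
  -- `X - x0 Z = -α Z - γ (Y - T) + γ (Y + T)`
  have hα0 : α ≠ 0 := by
    intro h0
    rw [hα, div_eq_zero_iff, or_iff_left hl0] at h0
    refine hsing ![x0, 0, 1] (fun h => by have := congrFun h 2; simp at this) (by rw [hP, hid, h0]; ring) fun x => ?_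
    refine ⟨c * ((x 1 - l * (x 0 - x0 * x 2)) * (x 1 + l * (x 0 - x0 * x 2))), fun t => ?_⟩
    have e : (![x0, 0, 1] : W) + t • x = ![x0 + t * x 0, t * x 1, 1 + t * x 2] := by
      ext i; fin_cases i <;> simp
    have ex : P x = P ![x 0, x 1, x 2] := by congr 1; ext i; fin_cases i <;> rfl
    rw [e, hP, ex, hP, hid, hid, h0]; ring
  have hγ0 : γ ≠ 0 := by rw [hγ]; simp [hl0]
  -- now `f = c ((α u + γ v - γ w) ^ 3 + u v w)`
  let Q : W →ₗ[K] W :=
    { toFun := fun r => ![x0 * (r 0 / α) - r 0 - r 1 - r 2, (r 1 / γ - r 2 / γ) / 2, r 0 / α]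
      map_add' := fun r r' => by ext i; fin_cases i <;> simp <;> ring
      map_smul' := fun s r => by ext i; fin_cases i <;> simp <;> ring }
  have hQ : ∀ r : W, eval (P (Q r)) f = c * ((r 0 + r 1 + r 2) ^ 3 + (-(α * γ ^ 2))⁻¹ * (r 0 * r 1 * r 2)) := by
    intro r
    show eval (P ![_, _, _]) f = _
    rw [hP, hid, hα, hγ]
    have hy : y0 ≠ 0 := fun h => hα0 (by rw [hα, h, zero_div])
    field_simp
    ring
  have hQinj : Function.Injective Q := by
    rw [injective_iff_map_eq_zero]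
    intro r hr
    have h0 := congrFun hr 0
    have h1 := congrFun hr 1
    have h2 := congrFun hr 2
    simp [Q, hα0, hγ0] at h0 h1 h2
    simp only [h2, zero_div, mul_zero, zero_sub] at h0
    ext i
    fin_cases i
    · exact h2
    · have e12 : r 1 = r 2 := by
        have := sub_eq_zero.mp h1
        field_simp at this
        exact this
      show r 1 = 0
      linear_combination (1 / 2 : K) * e12 + (-(1 : K) / 2) * h0
    · have e12 : r 1 = r 2 := by
        have := sub_eq_zero.mp h1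
        field_simp at this
        exact this
      show r 2 = 0
      linear_combination (-(1 : K) / 2) * e12 + (-(1 : K) / 2) * h0
  obtain ⟨k0, hk0⟩ : ∃ k0, k0 = (-(α * γ ^ 2))⁻¹ := ⟨_, rfl⟩
  rw [← hk0] at hQ
  have hk00 : k0 ≠ 0 := by rw [hk0]; simp [hα0, hγ0]
  obtain ⟨ω, hω⟩ := HasEnoughRootsOfUnity.exists_primitiveRoot K 3
  have hω3 : ω ^ 3 = 1 := hω.pow_eq_one
  have hω1 : ω ^ 2 + ω + 1 = 0 := by
    have h1 : (ω - 1) * (ω ^ 2 + ω + 1) = 0 := by linear_combination hω3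
    exact (mul_eq_zero.mp h1).resolve_left (sub_ne_zero.mpr (hω.ne_one (by norm_num)))
  let P2 : W ≃ₗ[K] W := (LinearEquiv.ofInjectiveEndo Q hQinj).trans P
  have hP2 : ∀ r, eval (P2 r) f = c * ((r 0 + r 1 + r 2) ^ 3 + k0 * (r 0 * r 1 * r 2)) := fun r => hQ r
  let S : W →ₗ[K] W :=
    { toFun := fun x => ![x 0 + x 1 + x 2, x 0 + ω * x 1 + ω ^ 2 * x 2, x 0 + ω ^ 2 * x 1 + ω * x 2]
      map_add' := fun r r' => by ext i; fin_cases i <;> simp <;> ring
      map_smul' := fun s r => by ext i; fin_cases i <;> simp <;> ring }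
  have hS : ∀ x : W, eval (P2 (S x)) f =
      c * (27 * x 0 ^ 3 + k0 * (x 0 ^ 3 + x 1 ^ 3 + x 2 ^ 3 - 3 * (x 0 * x 1 * x 2))) := by
    intro x
    rw [hP2]
    show c * ((_ + _ + _) ^ 3 + k0 * (_ * _ * _)) = _
    simp only [S, LinearMap.coe_mk, AddHom.coe_mk, Matrix.cons_val_zero, Matrix.cons_val_one, Matrix.cons_val]
    have hsum : (x 0 + x 1 + x 2) + (x 0 + ω * x 1 + ω ^ 2 * x 2) + (x 0 + ω ^ 2 * x 1 + ω * x 2) = 3 * x 0 := by
      linear_combination (x 1 + x 2) * hω1
    have hprod : (x 0 + x 1 + x 2) * (x 0 + ω * x 1 + ω ^ 2 * x 2) * (x 0 + ω ^ 2 * x 1 + ω * x 2)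
        = x 0 ^ 3 + x 1 ^ 3 + x 2 ^ 3 - 3 * (x 0 * x 1 * x 2) := by
      linear_combination ((x 0 + x 1 + x 2) * (x 0 * x 1 + x 0 * x 2 + x 1 * x 2)) * hω1
        + ((x 0 + x 1 + x 2) * (x 1 ^ 2 + x 2 ^ 2 + ω * (x 1 * x 2))) * hω3
    rw [hsum, hprod]
    ring
  have hSinj : Function.Injective S := by
    rw [injective_iff_map_eq_zero]
    intro x hx
    have h0 := congrFun hx 0
    have h1 := congrFun hx 1
    have h2 := congrFun hx 2
    simp [S] at h0 h1 h2
    ext i
    fin_cases i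
    · show x 0 = 0
      linear_combination (h0 + h1 + h2) / 3 - (x 1 + x 2) / 3 * hω1
    · show x 1 = 0
      linear_combination (h0 + ω ^ 2 * h1 + ω * h2) / 3 - (x 0 + x 2 * ω ^ 0) / 3 * hω1
        - (2 * x 1 + x 2 * ω) / 3 * hω3
    · show x 2 = 0
      linear_combination (h0 + ω * h1 + ω ^ 2 * h2) / 3 - (x 0 + x 1) / 3 * hω1
        - (2 * x 2 + x 1 * ω) / 3 * hω3
  let P3 : W ≃ₗ[K] W := (LinearEquiv.ofInjectiveEndo S hSinj).trans P2
  have hP3 : ∀ x, eval (P3 x) f =
      c * (27 * x 0 ^ 3 + k0 * (x 0 ^ 3 + x 1 ^ 3 + x 2 ^ 3 - 3 * (x 0 * x 1 * x 2))) := fun x => hS x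
  have h27 : 27 + k0 ≠ 0 := by
    intro h0
    have hy : (![1, 0, 0] : W) ≠ 0 := fun h => by have := congrFun h 0; simp at this
    refine hsm (P3 ![1, 0, 0]) (fun h => hy (P3.injective (h.trans (map_zero P3).symm))) ?_ (LinearMap.ext fun x => ?_)
    · rw [hP3]; simp [h0]
    obtain ⟨y, rfl⟩ := P3.surjective x
    have hk : k0 = -27 := by linear_combination h0
    obtain ⟨-, h2, -, -⟩ := coeff_zero (A := eval (P3 ![1, 0, 0]) f)
      (B := T f (P3 ![1, 0, 0]) (P3 ![1, 0, 0]) (P3 y) / 2)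
      (C := T f (P3 ![1, 0, 0]) (P3 y) (P3 y) / 2 - c * (81 * (y 1 * y 2)))
      (D := eval (P3 y) f - c * (-27) * (y 1 ^ 3 + y 2 ^ 3 - 3 * (y 0 * y 1 * y 2)))
      (fun t => by
        have h3 := eval_line hf (P3 ![1, 0, 0]) (P3 y) t
        rw [← map_smul, ← map_add] at h3
        rw [hP3, hk] at h3
        simp at h3
        linear_combination -h3)
    rw [tang3_apply, h2, LinearMap.zero_apply]
  obtain ⟨ρ, hρ⟩ := IsAlgClosed.exists_pow_nat_eq (k0 / (27 + k0)) (show 0 < 3 by norm_num)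
  have hρ0 : ρ ≠ 0 := fun h => by
    rw [h] at hρ
    exact div_ne_zero hk00 h27 (by simpa using hρ.symm)
  let D : W ≃ₗ[K] W :=
    { toFun := fun x => ![ρ * x 0, x 1, x 2]
      map_add' := fun r r' => by ext i; fin_cases i <;> simp <;> ring
      map_smul' := fun s r => by ext i; fin_cases i <;> simp <;> ring
      invFun := fun x => ![ρ⁻¹ * x 0, x 1, x 2]
      left_inv := fun x => by ext i; fin_cases i <;> simp [hρ0]
      right_inv := fun x => by ext i; fin_cases i <;> simp [hρ0] }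
  refine ⟨D.trans P3, ρ, c * k0, ?_, mul_ne_zero hc hk00, fun x => ?_⟩
  · rw [hρ, Ne, div_eq_one_iff_eq h27]
    intro h
    exact absurd (show (27 : K) = 0 by linear_combination -h) (by norm_num)
  · rw [LinearEquiv.trans_apply, hP3]
    have h27' : (27 + k0) * ρ ^ 3 = k0 := by rw [hρ]; field_simp
    simp [D, HesseCubic.form]
    linear_combination c * x 0 ^ 3 * h27'

end Groth.Agent.CubicH28
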