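import Mathlib
import Groth.Agent.Lib.CubicH28.Plane

/-!
Flexes of Hesse cubics and automorphisms of plane cubics.
-/

namespace Groth.Agent.CubicH28

open MvPolynomial Module Matrix

variable {K : Type*} [Field K] [CharZero K] [IsAlgClosed K]

local notation "W" => (Fin 3 → K)

omit [CharZero K] [IsAlgClosed K] in
lemma eval_subst3 (A : Matrix (Fin 3) (Fin 3) K) (g : MvPolynomial (Fin 3) K) (x : W) :
    eval x (aeval (fun i : Fin 3 => ∑ j : Fin 3, C (A i j) * X j) g) = eval (A *ᵥ x) g := by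
  induction g using MvPolynomial.induction_on with
  | C a => simp
  | add p q hp hq => rw [map_add, map_add, hp, hq, map_add]
  | mul_X p n hp =>
    rw [map_mul, map_mul, hp, map_mul, aeval_X, map_sum, eval_X]
    simp [Matrix.mulVec, dotProduct]

omit [IsAlgClosed K] in
lemma subst3_eq (A : Matrix (Fin 3) (Fin 3) K) (f g : MvPolynomial (Fin 3) K) (c : K) :
    aeval (fun i : Fin 3 => ∑ j : Fin 3, C (A i j) * X j) f = C c * g ↔ ∀ x, eval (A *ᵥ x) f = c * eval x g := by
  refine ⟨fun h x => by rw [← eval_subst3, h, map_mul, eval_C], fun h => MvPolynomial.funext fun x => ?_⟩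
  rw [eval_subst3, h, map_mul, eval_C]

omit [CharZero K] [IsAlgClosed K] in
lemma isHomogeneous_form (k : K) : (HesseCubic.form k).IsHomogeneous 3 := by
  unfold HesseCubic.form
  refine IsHomogeneous.sub ?_ (IsHomogeneous.C_mul ?_ _)
  · exact ((isHomogeneous_X_pow _ _).add (isHomogeneous_X_pow _ _)).add (isHomogeneous_X_pow _ _)
  · exact ((isHomogeneous_X K 0).mul (isHomogeneous_X K 1)).mul (isHomogeneous_X K 2)

omit [CharZero K] [IsAlgClosed K] in
lemma eval_form (k : K) (x : W) :
    eval x (HesseCubic.form k) = x 0 ^ 3 + x 1 ^ 3 + x 2 ^ 3 - 3 * k * (x 0 * x 1 * x 2) := by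
  simp [HesseCubic.form]

omit [CharZero K] [IsAlgClosed K] in
lemma hess_form (k : K) (v : W) :
    hess (HesseCubic.form k) v = !![6 * v 0, -(3 * k * v 2), -(3 * k * v 1);
      -(3 * k * v 2), 6 * v 1, -(3 * k * v 0); -(3 * k * v 1), -(3 * k * v 0), 6 * v 2] := by
  ext i j
  fin_cases i <;> fin_cases j <;> simp [hess, T, eval_form] <;> ring

/-- The nine points. -/
def Nine (v : W) : Prop :=
  ∃ γ c : K, γ ^ 3 = 1 ∧ (v = c • ![0, 1, -γ] ∨ v = c • ![-γ, 0, 1] ∨ v = c • ![1, -γ, 0])

omit [IsAlgClosed K] in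
theorem flex_form_iff {k : K} (hk : k ^ 3 ≠ 1) {v : W} (hv : v ≠ 0) (hfv : eval v (HesseCubic.form k) = 0) :
    IsFlex (HesseCubic.form k) v ↔ Nine v := by
  constructor
  · intro hflex
    have hdet := det_of_flex (isHomogeneous_form k) hflex
    rw [hess_form, Matrix.det_fin_three] at hdet
    simp at hdet
    rw [eval_form] at hfv
    have hxyz : 216 * (1 - k ^ 3) * (v 0 * v 1 * v 2) = 0 := by linear_combination hdet + 54 * k ^ 2 * hfv
    have h0 : v 0 * v 1 * v 2 = 0 :=
      (mul_eq_zero.mp hxyz).resolve_left (mul_ne_zero (by norm_num) (sub_ne_zero.mpr (Ne.symm hk)))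
    rcases mul_eq_zero.mp h0 with h01 | h2
    rcases mul_eq_zero.mp h01 with h | h
    · have h1 : v 1 ≠ 0 := fun h1 => hv (by
        have : v 2 ^ 3 = 0 := by rw [h, h1] at hfv; linear_combination hfv
        ext i; fin_cases i <;> simp [h, h1, pow_eq_zero_iff] at * <;> simp_all)
      refine ⟨-(v 2 / v 1), v 1, ?_, Or.inl ?_⟩
      · rw [h] at hfv; field_simp; linear_combination -hfv
      · ext i; fin_cases i <;> simp [h] <;> field_simp
    · have h2 : v 2 ≠ 0 := fun h2 => hv (by
        have : v 0 ^ 3 = 0 := by rw [h, h2] at hfv; linear_combination hfv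
        ext i; fin_cases i <;> simp [h, h2, pow_eq_zero_iff] at * <;> simp_all)
      refine ⟨-(v 0 / v 2), v 2, ?_, Or.inr (Or.inl ?_)⟩
      · rw [h] at hfv; field_simp; linear_combination -hfv
      · ext i; fin_cases i <;> simp [h] <;> field_simp
    · have h0' : v 0 ≠ 0 := fun h0' => hv (by
        have : v 1 ^ 3 = 0 := by rw [h0', h2] at hfv; linear_combination hfv
        ext i; fin_cases i <;> simp [h0', h2, pow_eq_zero_iff] at * <;> simp_all)
      refine ⟨-(v 1 / v 0), v 0, ?_, Or.inr (Or.inr ?_)⟩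
      · rw [h2] at hfv; field_simp; linear_combination -hfv
      · ext i; fin_cases i <;> simp [h2] <;> field_simp
  · rintro ⟨γ, c, hγ, hvv⟩
    have hc : c ≠ 0 := by rintro rfl; simp at hvv; exact hv hvv
    have hdet : (hess (HesseCubic.form k) v).det = 0 := by
      rw [hess_form, Matrix.det_fin_three]
      rcases hvv with rfl | rfl | rfl <;> simp <;>
        linear_combination (54 * k ^ 2 * c ^ 3) * hγ
    refine flex_of_det (isHomogeneous_form k) hfv ?_ hdet
    intro h
    rcases hvv with rfl | rfl | rfl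
    · have := LinearMap.congr_fun h (![0, 1, 0] : W)
      simp [tang3_apply, T, eval_form] at this
      ring_nf at this
      simp [hc] at this
    · have := LinearMap.congr_fun h (![0, 0, 1] : W)
      simp [tang3_apply, T, eval_form] at this
      ring_nf at this
      simp [hc] at this
    · have := LinearMap.congr_fun h (![1, 0, 0] : W)
      simp [tang3_apply, T, eval_form] at this
      ring_nf at this
      simp [hc] at this

omit [IsAlgClosed K] in
lemma isFlex_map {f g : MvPolynomial (Fin 3) K} (P : W ≃ₗ[K] W) {c : K}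
    (h : ∀ x, eval (P x) f = c * eval x g) {v : W} (hv : IsFlex g v) : IsFlex f (P v) := by
  obtain ⟨w, hw, ht⟩ := hv
  refine ⟨P w, ?_, fun t => ?_⟩
  · rw [LinearIndependent.pair_iff] at hw ⊢
    intro a b hab
    exact hw a b (P.injective (by rw [map_add, map_smul, map_smul, hab, map_zero]))
  · rw [← map_smul, ← map_add, h, h, ht]; ring

/-- An automorphism of the Hesse cubic moving `(0,1,-1)` to a given flex. -/
theorem exists_hesse_aut (k : K) {v : W} (hv : v ≠ 0) (h : Nine v) :
    ∃ (M : W ≃ₗ[K] W) (d : K), (∀ x, eval (M x) (HesseCubic.form k) = eval x (HesseCubic.form k)) ∧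
      d ≠ 0 ∧ M ![0, 1, -1] = d • v := by
  obtain ⟨γ, c, hγ, hvv⟩ := h
  have hc : c ≠ 0 := by rintro rfl; simp at hvv; exact hv hvv
  have hγ0 : γ ≠ 0 := by rintro rfl; simp at hγ
  have hγ4 : γ * γ ^ 2 = 1 := by linear_combination hγ
  let D : W ≃ₗ[K] W :=
    { toFun := fun x => ![x 0, γ * x 1, γ ^ 2 * x 2]
      map_add' := fun r r' => by ext i; fin_cases i <;> simp <;> ring
      map_smul' := fun s r => by ext i; fin_cases i <;> simp <;> ring
      invFun := fun x => ![x 0, γ ^ 2 * x 1, γ * x 2]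
      left_inv := fun x => by
        ext i; fin_cases i <;> simp <;> linear_combination (norm := ring_nf) (0 : K)
        all_goals first
          | linear_combination x 1 * hγ4
          | linear_combination x 2 * hγ4
      right_inv := fun x => by
        ext i; fin_cases i <;> simp <;> linear_combination (norm := ring_nf) (0 : K)
        all_goals first
          | linear_combination x 1 * hγ4
          | linear_combination x 2 * hγ4 }
  let R : W ≃ₗ[K] W :=
    { toFun := fun x => ![x 2, x 0, x 1]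
      map_add' := fun r r' => by ext i; fin_cases i <;> simp
      map_smul' := fun s r => by ext i; fin_cases i <;> simp
      invFun := fun x => ![x 1, x 2, x 0]
      left_inv := fun x => by ext i; fin_cases i <;> simp
      right_inv := fun x => by ext i; fin_cases i <;> simp }
  have hD : ∀ x, eval (D x) (HesseCubic.form k) = eval x (HesseCubic.form k) := fun x => by
    simp only [eval_form, D, LinearEquiv.coe_mk, LinearMap.coe_mk, AddHom.coe_mk, Matrix.cons_val_zero,
      Matrix.cons_val_one, Matrix.cons_val]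
    linear_combination (x 1 ^ 3 + x 2 ^ 3 * (γ ^ 3 + 1) - 3 * k * (x 0 * x 1 * x 2)) * hγ
  have hR : ∀ x, eval (R x) (HesseCubic.form k) = eval x (HesseCubic.form k) := fun x => by
    simp only [eval_form, R, LinearEquiv.coe_mk, LinearMap.coe_mk, AddHom.coe_mk, Matrix.cons_val_zero,
      Matrix.cons_val_one, Matrix.cons_val]
    ring
  have hbase : D ![0, 1, -1] = γ • ![0, 1, -γ] := by
    ext i; fin_cases i <;> simp [D] <;> ring
  rcases hvv with rfl | rfl | rfl
  · exact ⟨D, γ / c, hD, div_ne_zero hγ0 hc, by rw [hbase, smul_smul, div_mul_cancel₀ _ hc]⟩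
  · refine ⟨D.trans R, γ / c, fun x => by rw [LinearEquiv.trans_apply, hR, hD], div_ne_zero hγ0 hc, ?_⟩
    rw [LinearEquiv.trans_apply, hbase, map_smul, smul_smul, div_mul_cancel₀ _ hc]
    congr 1
  · refine ⟨(D.trans R).trans R, γ / c, fun x => by rw [LinearEquiv.trans_apply, hR, LinearEquiv.trans_apply, hR, hD], div_ne_zero hγ0 hc, ?_⟩
    rw [LinearEquiv.trans_apply, LinearEquiv.trans_apply, hbase, map_smul, map_smul, smul_smul, div_mul_cancel₀ _ hc]
    congr 1

variable {f : MvPolynomial (Fin 3) K} (hf : f.IsHomogeneous 3)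
include hf

omit [IsAlgClosed K] in
lemma nine_of_flex (P : W ≃ₗ[K] W) {k c : K} (hk : k ^ 3 ≠ 1) (hc : c ≠ 0)
    (hP : ∀ x, eval (P x) f = c * eval x (HesseCubic.form k)) {v : W} (hv : v ≠ 0) (hfl : IsFlex f v) :
    Nine (P.symm v) := by
  have h2 : ∀ x, eval (P.symm x) (HesseCubic.form k) = c⁻¹ * eval x f := fun x => by
    rw [← LinearEquiv.apply_symm_apply P x, hP, LinearEquiv.symm_apply_apply, ← mul_assoc,
      inv_mul_cancel₀ hc, one_mul]
  have hne : P.symm v ≠ 0 := by simpa using hv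
  exact (flex_form_iff hk hne (by rw [h2, (flex_cond hf hfl).1, mul_zero])).mp (isFlex_map P.symm h2 hfl)

theorem flex_transitive (hsm : ∀ v : W, v ≠ 0 → eval v f = 0 → tang3 hf v ≠ 0) {v v' : W} (hv : v ≠ 0)
    (hv' : v' ≠ 0) (hfl : IsFlex f v) (hfl' : IsFlex f v') :
    ∃ (A : Matrix (Fin 3) (Fin 3) K) (c d : K), IsUnit A.det ∧
      aeval (fun i : Fin 3 => ∑ j : Fin 3, C (A i j) * X j) f = C c * f ∧ A *ᵥ v = d • v' := by
  obtain ⟨P, k, c, hk, hc, hP⟩ := hesse_form hf hsm
  obtain ⟨M, d, hM, hd, hMv⟩ := exists_hesse_aut k (by simpa using hv) (nine_of_flex hf P hk hc hP hv hfl)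
  obtain ⟨M', d', hM', hd', hMv'⟩ := exists_hesse_aut k (by simpa using hv') (nine_of_flex hf P hk hc hP hv' hfl')
  let Φ : W ≃ₗ[K] W := ((P.symm.trans M.symm).trans M').trans P
  refine ⟨LinearMap.toMatrix' Φ.toLinearMap, 1, d⁻¹ * d', ?_, (subst3_eq _ _ _ _).mpr fun x => ?_, ?_⟩
  · rw [LinearMap.det_toMatrix']
    exact LinearEquiv.isUnit_det' Φ
  · rw [LinearMap.toMatrix'_mulVec, one_mul]
    show eval (P (M' (M.symm (P.symm x)))) f = _
    rw [hP, hM', ← hM (M.symm (P.symm x)), LinearEquiv.apply_symm_apply, ← hP, LinearEquiv.apply_symm_apply]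
  · rw [LinearMap.toMatrix'_mulVec]
    show P (M' (M.symm (P.symm v))) = _
    have e : M.symm (P.symm v) = d⁻¹ • ![0, 1, -1] := by
      rw [LinearEquiv.symm_apply_eq, map_smul, hMv, smul_smul, inv_mul_cancel₀ hd, one_smul]
    rw [e, map_smul, hMv', map_smul, map_smul, LinearEquiv.apply_symm_apply, smul_smul]

theorem aut_faithful (hsm : ∀ v : W, v ≠ 0 → eval v f = 0 → tang3 hf v ≠ 0) (A : Matrix (Fin 3) (Fin 3) K)
    (hfix : ∀ v : W, v ≠ 0 → eval v f = 0 → IsFlex f v → ∃ d : K, A *ᵥ v = d • v) :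
    ∃ c : K, A = c • (1 : Matrix (Fin 3) (Fin 3) K) := by
  obtain ⟨P, k, c, hk, hc, hP⟩ := hesse_form hf hsm
  obtain ⟨ω, hω⟩ := HasEnoughRootsOfUnity.exists_primitiveRoot K 3
  have hω1 : ω ≠ 1 := hω.ne_one (by norm_num)
  have key : ∀ p : W, p ≠ 0 → Nine p → ∃ d : K, A *ᵥ (P p) = d • P p := by
    intro p hp h9
    have h0 : eval p (HesseCubic.form k) = 0 := by
      obtain ⟨γ, e, hγ, hpp⟩ := h9
      rcases hpp with rfl | rfl | rfl <;> simp [eval_form] <;> linear_combination -(e ^ 3) * hγ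
    refine hfix _ (by simpa using hp) (by rw [hP, h0, mul_zero]) (isFlex_map P hP ((flex_form_iff hk hp h0).mpr h9))
  obtain ⟨d1, h1⟩ := key ![0, 1, -1] (by simp) ⟨1, 1, one_pow 3, Or.inl (by simp)⟩
  obtain ⟨d2, h2⟩ := key ![0, 1, -ω] (by simp) ⟨ω, 1, hω.pow_eq_one, Or.inl (by simp)⟩
  obtain ⟨d3, h3⟩ := key ![-1, 0, 1] (by simp) ⟨1, 1, one_pow 3, Or.inr (Or.inl (by simp))⟩
  obtain ⟨d4, h4⟩ := key ![-ω, 0, 1] (by simp) ⟨ω, 1, hω.pow_eq_one, Or.inr (Or.inl (by simp))⟩
  obtain ⟨G, hG⟩ : ∃ G : W →ₗ[K] W, ∀ x, G x = P.symm (A *ᵥ P x) :=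
    ⟨(P.symm.toLinearMap.comp A.mulVecLin).comp P.toLinearMap, fun x => rfl⟩
  have g : ∀ {p : W} {d : K}, A *ᵥ (P p) = d • P p → G p = d • p := fun {p d} h => by
    rw [hG, h, map_smul, LinearEquiv.symm_apply_apply]
  -- the fourth point is a combination of the first three with nonzero coefficients
  have hω' : ω - 1 ≠ 0 := sub_ne_zero.mpr hω1
  have hcomb : (![-ω, 0, 1] : W) = ((ω - 1) / (ω - 1)) • ω • ![-1, 0, 1]
      + (-1 : K) • ![0, 1, -1] + (1 : K) • ![0, 1, -ω] + (0 : K) • ![0, 0, 0] := by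
    ext i; fin_cases i <;> simp [div_self hω'] <;> ring
  have h4' := g h4
  rw [hcomb] at h4'
  simp only [map_add, map_smul, g h1, g h2, g h3, zero_smul, add_zero, map_zero, div_self hω', one_smul] at h4'
  have e0 := congrFun h4' 0
  have e1 := congrFun h4' 1
  have e2 := congrFun h4' 2
  simp at e0 e1 e2
  have hω0 : ω ≠ 0 := hω.ne_zero (by norm_num)
  have h34 : d3 = d4 := by
    have : ω * (d3 - d4) = 0 := by linear_combination e0
    exact sub_eq_zero.mp ((mul_eq_zero.mp this).resolve_left hω0)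
  have h12 : d1 = d2 := by linear_combination -e1
  have h13 : d1 = d4 := by
    have : (ω - 1) * (d1 - d4) = 0 := by
      rw [h34, ← h12] at e2
      linear_combination -e2
    exact sub_eq_zero.mp ((mul_eq_zero.mp this).resolve_left hω')
  refine ⟨d1, Matrix.ext_of_mulVec_single fun i => ?_⟩
  have hGall : ∀ x, G x = d1 • x := by
    intro x
    have k1 := g h1
    have k2 := g h2
    have k3 := g h3
    rw [← h12] at k2
    rw [h34, ← h13] at k3
    have hx : x = (-x 0) • ![-1, 0, 1] + (x 1 - (-(x 2 + x 0 + x 1) / (ω - 1))) • ![0, 1, -1]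
        + (-(x 2 + x 0 + x 1) / (ω - 1)) • ![0, 1, -ω] := by
      ext i; fin_cases i <;> simp <;> field_simp <;> ring
    rw [hx, map_add, map_add, map_smul, map_smul, map_smul, k1, k2, k3]
    module
  have := hG (P.symm (Pi.single i 1))
  rw [hGall, LinearEquiv.apply_symm_apply, ← map_smul] at this
  rw [← P.symm.injective this, Matrix.smul_mulVec, Matrix.one_mulVec]

end Groth.Agent.CubicH28
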