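import Mathlib
import Groth.Agent.Lib.CubicH28.Hesse

/-!
Automorphisms of the general Hesse cubic.
-/

namespace Groth.Agent.CubicH28

open MvPolynomial Module Matrix

variable {K : Type*} [Field K] [CharZero K] [IsAlgClosed K]

local notation "W" => (Fin 3 → K)

/-- member of the Hesse pencil -/
noncomputable def mem' (a b : K) : MvPolynomial (Fin 3) K :=
  C a * (X 0 ^ 3 + X 1 ^ 3 + X 2 ^ 3) + C b * (X 0 * X 1 * X 2)

omit [CharZero K] [IsAlgClosed K] in
lemma eval_mem' (a b : K) (x : W) :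
    eval x (mem' a b) = a * (x 0 ^ 3 + x 1 ^ 3 + x 2 ^ 3) + b * (x 0 * x 1 * x 2) := by simp [mem']

omit [CharZero K] [IsAlgClosed K] in
lemma T_mem' (a b : K) (v x : W) : T (mem' a b) v v x = 6 * a * (v 0 ^ 2 * x 0 + v 1 ^ 2 * x 1 + v 2 ^ 2 * x 2)
    + 2 * b * (v 1 * v 2 * x 0 + v 0 * v 2 * x 1 + v 0 * v 1 * x 2) := by
  simp only [T, eval_mem', Pi.add_apply]; ring

omit [IsAlgClosed K] in
/-- singular members are degenerate -/
lemma degenerate {a b : K} (ha : a ≠ 0) {v : W} (hv : v ≠ 0) (hs : ∀ x, T (mem' a b) v v x = 0) :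
    (-b / (3 * a)) ^ 3 = 1 := by
  have hT := T_mem' a b v
  have q0 := (hT ![1, 0, 0]).symm.trans (hs _)
  have q1 := (hT ![0, 1, 0]).symm.trans (hs _)
  have q2 := (hT ![0, 0, 1]).symm.trans (hs _)
  simp at q0 q1 q2
  have r0 : 3 * a * v 0 ^ 2 = -(b * (v 1 * v 2)) := by linear_combination q0 / 2
  have r1 : 3 * a * v 1 ^ 2 = -(b * (v 0 * v 2)) := by linear_combination q1 / 2
  have r2 : 3 * a * v 2 ^ 2 = -(b * (v 0 * v 1)) := by linear_combination q2 / 2
  have h3a : (3 : K) * a ≠ 0 := mul_ne_zero (by norm_num) ha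
  by_cases hp : v 0 * v 1 * v 2 = 0
  · exfalso
    refine hv ?_
    rcases mul_eq_zero.mp hp with h | h
    rcases mul_eq_zero.mp h with h | h
    · rw [h] at r1 r2; simp [ha] at r1 r2; ext i; fin_cases i <;> simp [*]
    · rw [h] at r0 r2; simp [ha] at r0 r2; ext i; fin_cases i <;> simp [*]
    · rw [h] at r0 r1; simp [ha] at r0 r1; ext i; fin_cases i <;> simp [*]
  · have h := congrArg₂ (· * ·) (congrArg₂ (· * ·) r0 r1) r2
    have h' : ((3 * a) ^ 3 + b ^ 3) * (v 0 * v 1 * v 2) ^ 2 = 0 := by linear_combination h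
    have h'' := (mul_eq_zero.mp h').resolve_right (pow_ne_zero 2 hp)
    field_simp
    linear_combination -h''

omit [IsAlgClosed K] in
/-- a cubic through the nine points is in the pencil -/
lemma pencil {g : MvPolynomial (Fin 3) K} (hg : g.IsHomogeneous 3) {ω : K} (hω : IsPrimitiveRoot ω 3)
    (h9 : ∀ v : W, Nine v → eval v g = 0) : ∃ a b : K, ∀ x, eval x g = a * (x 0 ^ 3 + x 1 ^ 3 + x 2 ^ 3) + b * (x 0 * x 1 * x 2) := by
  let e0 : W := ![1, 0, 0]
  let e1 : W := ![0, 1, 0]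
  let e2 : W := ![0, 0, 1]
  have hexp : ∀ x : W, eval x g = x 0 ^ 3 * eval e0 g + x 1 ^ 3 * eval e1 g + x 2 ^ 3 * eval e2 g
      + x 0 ^ 2 * x 1 * (T g e0 e0 e1 / 2) + x 0 * x 1 ^ 2 * (T g e0 e1 e1 / 2)
      + x 0 ^ 2 * x 2 * (T g e0 e0 e2 / 2) + x 0 * x 2 ^ 2 * (T g e0 e2 e2 / 2)
      + x 1 ^ 2 * x 2 * (T g e1 e1 e2 / 2) + x 1 * x 2 ^ 2 * (T g e1 e2 e2 / 2)
      + x 0 * x 1 * x 2 * T g e0 e1 e2 := by
    intro x
    have hs : ∀ (r : K) (y : W), eval (r • y) g = r ^ 3 * eval y g := fun r y => by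
      have := T_self hg (r • y)
      rw [T_smul hg, T_smul₂ hg, T_smul₃ hg, T_self hg] at this
      linear_combination -this / 6
    have hx : x = (x 0 • e0 + x 1 • e1) + x 2 • e2 := by
      ext i; fin_cases i <;> simp [e0, e1, e2]
    conv_lhs => rw [hx]
    rw [eval_line hg, eval_line hg, hs]
    simp only [T_add hg, T_add₂ hg, T_smul hg, T_smul₂ hg]
    rw [T_symm12 g e1 e0 e2]
    ring
  have hω1 : ω ^ 2 + ω + 1 = 0 := by
    have h1 : (ω - 1) * (ω ^ 2 + ω + 1) = 0 := by linear_combination hω.pow_eq_one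
    exact (mul_eq_zero.mp h1).resolve_left (sub_ne_zero.mpr (hω.ne_one (by norm_num)))
  have hω3 := hω.pow_eq_one
  have solve : ∀ u v p q : K, (∀ γ : K, γ ^ 3 = 1 → u - γ * p + γ ^ 2 * q - v = 0) → u = v ∧ p = 0 ∧ q = 0 := by
    intro u v p q h
    have a1 := h 1 (one_pow 3)
    have a2 := h ω hω3
    have a3 := h (ω ^ 2) (by linear_combination (ω ^ 3 + 1) * hω3)
    have huv : (u - v) * 3 = 0 := by
      linear_combination a1 + a2 + a3 + (p - q) * hω1 - q * ω * hω3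
    have hp : p * 3 = 0 := by
      linear_combination -a1 - ω ^ 2 * a2 - ω * a3 + (u - v) * hω1 + q * hω1 + q * ω * hω3
        - 2 * p * hω3 + q * ω * hω3 + q * (ω ^ 2 - ω) * hω3
    have hq : q * 3 = 0 := by
      have e1 : u = v := by linear_combination huv / 3
      have e2 : p = 0 := by linear_combination hp / 3
      rw [e1, e2] at a1
      linear_combination 3 * a1
    exact ⟨by linear_combination huv / 3, by linear_combination hp / 3, by linear_combination hq / 3⟩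
  obtain ⟨s1, s2, s3⟩ := solve (eval e1 g) (eval e2 g) (T g e1 e1 e2 / 2) (T g e1 e2 e2 / 2) fun γ hγ => by
    have := h9 ![0, 1, -γ] ⟨γ, 1, hγ, Or.inl (by simp)⟩
    rw [hexp] at this
    simp at this
    linear_combination this + eval e2 g * hγ
  obtain ⟨t1, t2, t3⟩ := solve (eval e2 g) (eval e0 g) (T g e0 e2 e2 / 2) (T g e0 e0 e2 / 2) fun γ hγ => by
    have := h9 ![-γ, 0, 1] ⟨γ, 1, hγ, Or.inr (Or.inl (by simp))⟩
    rw [hexp] at this
    simp at this
    linear_combination this + eval e0 g * hγ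
  obtain ⟨r1, r2, r3⟩ := solve (eval e0 g) (eval e1 g) (T g e0 e0 e1 / 2) (T g e0 e1 e1 / 2) fun γ hγ => by
    have := h9 ![1, -γ, 0] ⟨γ, 1, hγ, Or.inr (Or.inr (by simp))⟩
    rw [hexp] at this
    simp at this
    linear_combination this + eval e1 g * hγ
  exact ⟨eval e0 g, T g e0 e1 e2, fun x => by
    rw [hexp, s2, s3, t2, t3, r2, r3, ← t1, ← r1.symm.trans t1.symm]; ring⟩

omit [IsAlgClosed K] in
lemma nine_on {v : W} (h : Nine v) : v 0 * v 1 * v 2 = 0 ∧ v 0 ^ 3 + v 1 ^ 3 + v 2 ^ 3 = 0 := by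
  obtain ⟨γ, c, hγ, hv⟩ := h
  rcases hv with rfl | rfl | rfl <;> simp <;> linear_combination -(c ^ 3) * hγ

/-- composite with a linear substitution -/
noncomputable def comp' (A : Matrix (Fin 3) (Fin 3) K) (g : MvPolynomial (Fin 3) K) : MvPolynomial (Fin 3) K :=
  aeval (fun i : Fin 3 => ∑ j : Fin 3, C (A i j) * X j) g

omit [CharZero K] [IsAlgClosed K] in
lemma T_comp' (A : Matrix (Fin 3) (Fin 3) K) (g : MvPolynomial (Fin 3) K) (a b c : W) :
    T (comp' A g) a b c = T g (A *ᵥ a) (A *ᵥ b) (A *ᵥ c) := by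
  simp only [T, comp', eval_subst3, Matrix.mulVec_add]

omit [CharZero K] [IsAlgClosed K] in
lemma comp'_homogeneous (A : Matrix (Fin 3) (Fin 3) K) {g : MvPolynomial (Fin 3) K} (hg : g.IsHomogeneous 3) :
    (comp' A g).IsHomogeneous 3 :=
  IsHomogeneous.aeval hg _ (fun i => IsHomogeneous.sum _ _ _ fun j _ => (isHomogeneous_X K j).C_mul _)

variable {k : K} {A : Matrix (Fin 3) (Fin 3) K}

/-- the pencil is preserved -/
lemma pencil_map (hk : k ^ 3 ≠ 1) (hA : A.det ≠ 0)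
    (hc : ∃ c : K, ∀ x, eval (A *ᵥ x) (HesseCubic.form k) = c * eval x (HesseCubic.form k)) (a b : K) :
    ∃ a' b' : K, (∀ x : W, a' * (x 0 ^ 3 + x 1 ^ 3 + x 2 ^ 3) + b' * (x 0 * x 1 * x 2) =
      eval (A *ᵥ x) (mem' a b)) ∧ ∀ x y z : W, T (mem' a' b') x y z = T (mem' a b) (A *ᵥ x) (A *ᵥ y) (A *ᵥ z) := by
  obtain ⟨c, hc⟩ := hc
  obtain ⟨ω, hω⟩ := HasEnoughRootsOfUnity.exists_primitiveRoot K 3
  have hhom : (mem' a b).IsHomogeneous 3 :=
    ((((isHomogeneous_X_pow _ _).add (isHomogeneous_X_pow _ _)).add (isHomogeneous_X_pow _ _)).C_mul _).add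
      ((((isHomogeneous_X K 0).mul (isHomogeneous_X K 1)).mul (isHomogeneous_X K 2)).C_mul _)
  let P : W ≃ₗ[K] W := LinearEquiv.ofInjectiveEndo A.mulVecLin
    (Matrix.mulVec_injective_iff_isUnit.mpr ((Matrix.isUnit_iff_isUnit_det A).mpr (isUnit_iff_ne_zero.mpr hA)))
  have hP : ∀ x, P x = A *ᵥ x := fun x => rfl
  obtain ⟨a', b', h⟩ := pencil (comp'_homogeneous A hhom) hω fun v hv => by
    rw [comp', eval_subst3, eval_mem']
    by_cases hv0 : v = 0
    · subst hv0; simp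
    have h0 : eval v (HesseCubic.form k) = 0 := by
      obtain ⟨p1, p2⟩ := nine_on hv
      rw [eval_form]; linear_combination p2 - 3 * k * p1
    have hfl : IsFlex (HesseCubic.form k) (P v) :=
      isFlex_map P (fun x => by rw [hP, hc]) ((flex_form_iff hk hv0 h0).mpr hv)
    have h9 := (flex_form_iff hk (by simpa using hv0) (flex_cond (isHomogeneous_form k) hfl).1).mp hfl
    rw [hP] at h9
    obtain ⟨p1, p2⟩ := nine_on h9
    rw [p1, p2]; ring
  refine ⟨a', b', fun x => by rw [← h, comp', eval_subst3], fun x y z => ?_⟩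
  rw [← T_comp']
  simp only [T, eval_mem', h]

/-- A triangle of the pencil goes to a triangle. -/
lemma triangle_map (hk : k ^ 3 ≠ 1) (hA : A.det ≠ 0)
    (hc : ∃ c : K, ∀ x, eval (A *ᵥ x) (HesseCubic.form k) = c * eval x (HesseCubic.form k))
    (a b : K) {v : W} (hv : v ≠ 0) (hs : ∀ x, T (mem' a b) v v x = 0) :
    ∃ a' b' : K, (a' = 0 ∨ (-b' / (3 * a')) ^ 3 = 1) ∧
      ∀ x : W, a' * (x 0 ^ 3 + x 1 ^ 3 + x 2 ^ 3) + b' * (x 0 * x 1 * x 2) = eval (A *ᵥ x) (mem' a b) := by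
  obtain ⟨a', b', h1, h2⟩ := pencil_map hk hA hc a b
  refine ⟨a', b', ?_, h1⟩
  by_cases ha : a' = 0
  · exact Or.inl ha
  right
  have hu : IsUnit A.det := isUnit_iff_ne_zero.mpr hA
  have hAA : A *ᵥ (A⁻¹ *ᵥ v) = v := by rw [Matrix.mulVec_mulVec, Matrix.mul_nonsing_inv A hu, Matrix.one_mulVec]
  refine degenerate ha (v := A⁻¹ *ᵥ v) (fun h0 => hv ?_) fun x => ?_
  · rw [← hAA, h0, Matrix.mulVec_zero]
  · rw [h2, hAA]; exact hs _

omit [IsAlgClosed K] in
lemma sing_tri : ∀ x : W, T (mem' (0 : K) 1) ![1, 0, 0] ![1, 0, 0] x = 0 := fun x => by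
  simp [T_mem']

omit [IsAlgClosed K] in
lemma sing_deg {ρ : K} (hρ : ρ ^ 3 = 1) :
    ∀ x : W, T (mem' 1 (-3 * ρ)) ![ρ ^ 2, 1, 1] ![ρ ^ 2, 1, 1] x = 0 := fun x => by
  simp [T_mem']
  linear_combination (6 * ρ * x 0 - 6 * x 1 - 6 * x 2) * hρ

/-- The exceptional parameters. -/
def Bad (k : K) : Prop :=
  k = 0 ∨ k ^ 3 = 1 ∨ ∃ ρ ρ' ε δ : K, ρ ^ 3 = 1 ∧ ρ' ^ 3 = 1 ∧ ε ^ 3 = 1 ∧ δ ^ 3 = 1 ∧
    (ρ - k) * k + (k - ρ') * ε = δ * (ρ - ρ')

theorem finite_bad : Set.Finite {k : K | Bad k} := by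
  classical
  let μ : Finset K := (Polynomial.X ^ 3 - 1 : Polynomial K).roots.toFinset
  have hμ : ∀ x : K, x ^ 3 = 1 → x ∈ μ := fun x hx => by
    have hne : (Polynomial.X ^ 3 - 1 : Polynomial K) ≠ 0 := by
      intro h
      have := congrArg (Polynomial.eval 0) h
      simp at this
    simp [μ, Polynomial.mem_roots hne, hx]
  let P : K × K × K × K → Polynomial K := fun t =>
    (Polynomial.C t.1 - Polynomial.X) * Polynomial.X + (Polynomial.X - Polynomial.C t.2.1) * Polynomial.C t.2.2.1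
      - Polynomial.C (t.2.2.2 * (t.1 - t.2.1))
  refine Set.Finite.subset (((Set.finite_singleton (0 : K)).union μ.finite_toSet).union
    ((μ ×ˢ μ ×ˢ μ ×ˢ μ).biUnion fun t => (P t).roots.toFinset).finite_toSet) fun k hk => ?_
  rcases hk with rfl | hk | ⟨ρ, ρ', ε, δ, h1, h2, h3, h4, h5⟩
  · simp
  · exact Or.inl (Or.inr (hμ k hk))
  · refine Or.inr ?_
    simp only [Finset.coe_biUnion, Set.mem_iUnion, Finset.mem_coe, Multiset.mem_toFinset]
    refine ⟨(ρ, ρ', ε, δ), by simp [hμ _ h1, hμ _ h2, hμ _ h3, hμ _ h4], ?_⟩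
    have hne : P (ρ, ρ', ε, δ) ≠ 0 := by
      intro h
      have q0 := congrArg (Polynomial.eval 0) h
      have q1 := congrArg (Polynomial.eval 1) h
      have q2 := congrArg (Polynomial.eval (-1)) h
      simp [P] at q0 q1 q2
      have : (2 : K) = 0 := by linear_combination 2 * q0 - q1 - q2
      exact two_ne_zero this
    rw [Polynomial.mem_roots hne]
    simp [P, Polynomial.IsRoot]
    linear_combination h5

/-- Automorphisms of a general Hesse cubic are monomial. -/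
theorem triangle_fixed (hk : ¬ Bad k) (hA : A.det ≠ 0)
    {c : K} (hc : ∀ x, eval (A *ᵥ x) (HesseCubic.form k) = c * eval x (HesseCubic.form k)) :
    ∃ μ : K, ∀ x : W, (A *ᵥ x) 0 * (A *ᵥ x) 1 * (A *ᵥ x) 2 = μ * (x 0 * x 1 * x 2) := by
  have hk3 : k ^ 3 ≠ 1 := fun h => hk (Or.inr (Or.inl h))
  have hu : IsUnit A.det := isUnit_iff_ne_zero.mpr hA
  have hAA : ∀ x : W, A⁻¹ *ᵥ (A *ᵥ x) = x := fun x => by
    rw [Matrix.mulVec_mulVec, Matrix.nonsing_inv_mul A hu, Matrix.one_mulVec]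
  have hAA' : ∀ x : W, A *ᵥ (A⁻¹ *ᵥ x) = x := fun x => by
    rw [Matrix.mulVec_mulVec, Matrix.mul_nonsing_inv A hu, Matrix.one_mulVec]
  obtain ⟨a, b, hab, h1⟩ := triangle_map hk3 hA ⟨c, hc⟩ 0 1 (v := ![1, 0, 0]) (by simp) sing_tri
  simp only [eval_mem', zero_mul, zero_add, one_mul] at h1
  by_cases ha : a = 0
  · exact ⟨b, fun x => by rw [← h1, ha]; ring⟩
  exfalso
  have hε := hab.resolve_left ha
  obtain ⟨ε, hεd⟩ : ∃ ε, ε = -b / (3 * a) := ⟨_, rfl⟩
  rw [← hεd] at hε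
  have hb : b = -3 * ε * a := by rw [hεd]; field_simp
  -- `c` is nonzero
  have hc0 : c ≠ 0 := by
    intro h0
    have := hc (A⁻¹ *ᵥ ![1, 0, 0])
    rw [hAA', h0, zero_mul, eval_form] at this
    simp at this
  have hcinv : ∀ x, eval (A⁻¹ *ᵥ x) (HesseCubic.form k) = c⁻¹ * eval x (HesseCubic.form k) := fun x => by
    have := hc (A⁻¹ *ᵥ x)
    rw [hAA'] at this
    rw [this, ← mul_assoc, inv_mul_cancel₀ hc0, one_mul]
  have hA' : A⁻¹.det ≠ 0 := by rw [Matrix.det_nonsing_inv]; simp [hA]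
  obtain ⟨a2, b2, hab2, h2⟩ := triangle_map hk3 hA' ⟨c⁻¹, hcinv⟩ 0 1 (v := ![1, 0, 0]) (by simp) sing_tri
  simp only [eval_mem', zero_mul, zero_add, one_mul] at h2
  have h2' : ∀ x : W, x 0 * x 1 * x 2 = a2 * ((A *ᵥ x) 0 ^ 3 + (A *ᵥ x) 1 ^ 3 + (A *ᵥ x) 2 ^ 3)
      + b2 * ((A *ᵥ x) 0 * (A *ᵥ x) 1 * (A *ᵥ x) 2) := fun x => by
    have := h2 (A *ᵥ x)
    rw [hAA] at this
    exact this.symm
  have hS : ∀ x : W, (A *ᵥ x) 0 ^ 3 + (A *ᵥ x) 1 ^ 3 + (A *ᵥ x) 2 ^ 3
      = (c + 3 * k * a) * (x 0 ^ 3 + x 1 ^ 3 + x 2 ^ 3) + (-3 * k * c + 3 * k * b) * (x 0 * x 1 * x 2) := fun x => by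
    have := hc x
    rw [eval_form, eval_form] at this
    linear_combination this - 3 * k * h1 x
  by_cases ha2 : a2 = 0
  · have e := h2' ![1, 0, 0]
    rw [← h1, ha2] at e
    simp [ha] at e
    have e2 := h2' ![1, 1, 1]
    rw [← h1, ha2, e] at e2
    simp at e2
  have hρ := hab2.resolve_left ha2
  obtain ⟨ρ, hρd⟩ : ∃ ρ, ρ = -b2 / (3 * a2) := ⟨_, rfl⟩
  rw [← hρd] at hρ
  have hb2 : b2 = -3 * ρ * a2 := by rw [hρd]; field_simp
  have hs : c = 3 * a * (ρ - k) := by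
    have e := h2' ![1, 0, 0]
    rw [← h1, hS, hb2] at e
    simp at e
    have : a2 * (c - 3 * a * (ρ - k)) = 0 := by linear_combination -e
    exact sub_eq_zero.mp ((mul_eq_zero.mp this).resolve_left ha2)
  -- another triangle
  obtain ⟨ρ', hρ', hne⟩ : ∃ ρ' : K, ρ' ^ 3 = 1 ∧ ρ' ≠ ρ := by
    obtain ⟨ω, hω⟩ := HasEnoughRootsOfUnity.exists_primitiveRoot K 3
    refine ⟨ω * ρ, by rw [mul_pow, hω.pow_eq_one, hρ, one_mul], fun h => hω.ne_one (by norm_num) ?_⟩
    have hρ0 : ρ ≠ 0 := by rintro rfl; simp at hρ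
    exact (mul_left_eq_self₀.mp h).resolve_right hρ0
  obtain ⟨a3, b3, hab3, h3⟩ := triangle_map hk3 hA ⟨c, hc⟩ 1 (-3 * ρ') (v := ![ρ' ^ 2, 1, 1]) (by simp) (sing_deg hρ')
  have e0 := h3 ![1, 0, 0]
  have e1 := h3 ![1, 1, 1]
  rw [eval_mem', hS, ← h1] at e0 e1
  simp at e0 e1
  have ha3 : a3 = 3 * a * (ρ - ρ') := by rw [e0, hs]; ring
  have ha30 : a3 ≠ 0 := by rw [ha3]; simp [ha, sub_ne_zero, hne.symm]
  have hb3 : b3 = -3 * k * c + 3 * k * b - 3 * ρ' * b := by
    linear_combination e1 - 3 * e0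
  refine hk (Or.inr (Or.inr ⟨ρ, ρ', ε, -b3 / (3 * a3), hρ, hρ', hε, hab3.resolve_left ha30, ?_⟩))
  rw [hb3, ha3, hs, hb]
  have : ρ - ρ' ≠ 0 := sub_ne_zero.mpr hne.symm
  field_simp
  ring

omit [IsAlgClosed K] in
lemma prod_three_zero {V : Type*} [AddCommGroup V] [Module K V] (f g h : V →ₗ[K] K)
    (hz : ∀ x, f x * g x * h x = 0) : f = 0 ∨ g = 0 ∨ h = 0 := by
  by_cases hf : f = 0
  · exact Or.inl hf
  right
  obtain ⟨u, hu⟩ : ∃ u, f u = 1 := LinearMap.surjective hf 1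
  have key : ∀ x, g x * h x = 0 := by
    intro x
    by_cases hx : f x = 0
    · have q : ∀ t : K, t ≠ 0 → (g x + t * g u) * (h x + t * h u) = 0 := fun t ht => by
        have := hz (x + t • u)
        simp only [map_add, map_smul, smul_eq_mul, hx, hu, mul_one, zero_add] at this
        exact (mul_eq_zero.mp (show t * ((g x + t * g u) * (h x + t * h u)) = 0 by linear_combination this)).resolve_left ht
      have q1 := q 1 one_ne_zero
      have q2 := q 2 two_ne_zero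
      have q3 := q 3 (by norm_num)
      linear_combination 3 * q1 - 3 * q2 + q3
    · exact (mul_eq_zero.mp (show f x * (g x * h x) = 0 by linear_combination hz x)).resolve_left hx
  by_cases hg : g = 0
  · exact Or.inl hg
  right
  obtain ⟨w, hw⟩ : ∃ w, g w = 1 := LinearMap.surjective hg 1
  refine LinearMap.ext fun x => ?_
  have k1 := key w
  rw [hw, one_mul] at k1
  have k2 := key (x + w)
  have k3 := key (x + (2 : K) • w)
  simp only [map_add, map_smul, smul_eq_mul, hw, k1] at k2 k3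
  rw [LinearMap.zero_apply]
  linear_combination k3 - k2

/-- The monomial matrix of `(σ, d)`. -/
def monMat (σ : Equiv.Perm (Fin 3)) (d : W) : Matrix (Fin 3) (Fin 3) K :=
  (Matrix.diagonal d).submatrix σ.symm id

omit [CharZero K] [IsAlgClosed K] in
lemma monMat_apply (σ : Equiv.Perm (Fin 3)) (d : W) (i l : Fin 3) :
    monMat σ d i l = if σ l = i then d l else 0 := by
  simp only [monMat, Matrix.submatrix_apply, id, Matrix.diagonal_apply]
  by_cases h : σ l = i
  · rw [if_pos h, if_pos (by rw [← h, Equiv.symm_apply_apply]), ← h, Equiv.symm_apply_apply]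
  · rw [if_neg h, if_neg (fun e => h (by rw [← e, Equiv.apply_symm_apply]))]

omit [CharZero K] [IsAlgClosed K] in
lemma monMat_mulVec (σ : Equiv.Perm (Fin 3)) (d x : W) (j : Fin 3) :
    (monMat σ d *ᵥ x) (σ j) = d j * x j := by
  simp [Matrix.mulVec, dotProduct, monMat_apply]

omit [CharZero K] [IsAlgClosed K] in
lemma eval_monMat (k : K) (σ : Equiv.Perm (Fin 3)) (d x : W) :
    eval (monMat σ d *ᵥ x) (HesseCubic.form k) =
      d 0 ^ 3 * x 0 ^ 3 + d 1 ^ 3 * x 1 ^ 3 + d 2 ^ 3 * x 2 ^ 3 - 3 * k * ((d 0 * d 1 * d 2) * (x 0 * x 1 * x 2)) := by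
  have h1 := (Equiv.sum_comp σ (fun i => (monMat σ d *ᵥ x) i ^ 3)).symm
  have h2 := (Equiv.prod_comp σ (fun i => (monMat σ d *ᵥ x) i)).symm
  simp only [monMat_mulVec, Fin.sum_univ_three, Fin.prod_univ_three] at h1 h2
  rw [eval_form, h1, h2]; ring

omit [CharZero K] [IsAlgClosed K] in
lemma det_monMat (σ : Equiv.Perm (Fin 3)) (d : W) :
    (monMat σ d).det = ((Equiv.Perm.sign σ : ℤ) : K) * (d 0 * d 1 * d 2) := by
  rw [monMat, Matrix.det_permute, Matrix.det_diagonal, Fin.prod_univ_three, Equiv.Perm.sign_symm]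

theorem monomial_of_triangle {A : Matrix (Fin 3) (Fin 3) K} (hA : A.det ≠ 0) {μ : K}
    (h : ∀ x : W, (A *ᵥ x) 0 * (A *ᵥ x) 1 * (A *ᵥ x) 2 = μ * (x 0 * x 1 * x 2)) :
    ∃ σ d, A = monMat σ d := by
  have hex : ∀ j : Fin 3, ∃ i : Fin 3, ∀ l, l ≠ j → A i l = 0 := by
    intro j
    let π : W →ₗ[K] W := LinearMap.id - (LinearMap.single K (fun _ : Fin 3 => K) j).comp (LinearMap.proj j)
    let r : Fin 3 → (W →ₗ[K] K) := fun i => ((LinearMap.proj i).comp A.mulVecLin).comp π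
    have hπ : ∀ x : W, π x j = 0 := fun x => by simp [π]
    have hz : ∀ x, r 0 x * r 1 x * r 2 x = 0 := fun x => by
      show (A *ᵥ π x) 0 * (A *ᵥ π x) 1 * (A *ᵥ π x) 2 = 0
      rw [h]
      have := hπ x
      fin_cases j <;> simp [this] <;> simp_all
    have key : ∀ i, r i = 0 → ∀ l, l ≠ j → A i l = 0 := fun i hi l hl => by
      have h0 : (A *ᵥ π (Pi.single l 1)) i = 0 := LinearMap.congr_fun hi _
      have h1 : π (Pi.single l 1) = Pi.single l 1 := by
        simp [π, Pi.single_eq_of_ne (Ne.symm hl)]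
      rw [h1] at h0
      simpa using h0
    rcases prod_three_zero _ _ _ hz with e | e | e
    · exact ⟨0, key 0 e⟩
    · exact ⟨1, key 1 e⟩
    · exact ⟨2, key 2 e⟩
  choose g hg using hex
  have hinj : Function.Injective g := by
    intro j j' hjj
    by_contra hne
    refine hA (Matrix.det_eq_zero_of_row_eq_zero (g j) fun l => ?_)
    by_cases hl : l = j
    · subst hl; rw [hjj]; exact hg j' _ hne
    · exact hg j l hl
  let σ : Equiv.Perm (Fin 3) := Equiv.ofBijective g (Finite.injective_iff_bijective.mp hinj)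
  refine ⟨σ, fun j => A (g j) j, Matrix.ext fun i l => ?_⟩
  rw [monMat_apply]
  split_ifs with hi
  · rw [← hi]; rfl
  · obtain ⟨j, rfl⟩ := σ.surjective i
    exact hg j l fun e => hi (by rw [e])

theorem card_aut (k : K) (hk : ¬ Bad k) :
    Nat.card {A : Matrix (Fin 3) (Fin 3) K // A.det = 1 ∧
      ∃ c : K, aeval (fun i : Fin 3 => ∑ j : Fin 3, C (A i j) * X j) (HesseCubic.form k) =
        C c * HesseCubic.form k} = 54 := by
  classical
  have hk0 : k ≠ 0 := fun h => hk (Or.inl h)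
  obtain ⟨ω, hω⟩ := HasEnoughRootsOfUnity.exists_primitiveRoot K 3
  let s : Equiv.Perm (Fin 3) → K := fun σ => ((Equiv.Perm.sign σ : ℤ) : K)
  have hs : ∀ σ, s σ * s σ = 1 := fun σ => by
    rcases Int.units_eq_one_or (Equiv.Perm.sign σ) with h | h <;> simp [s, h]
  have hs0 : ∀ σ, s σ ≠ 0 := fun σ h => by have := hs σ; rw [h] at this; simp at this
  have hμ0 : ∀ a : {x : K // x ^ 3 = 1}, a.1 ≠ 0 := fun a h => by have := a.2; rw [h] at this; simp at this
  let dd : Equiv.Perm (Fin 3) × {x : K // x ^ 3 = 1} × {x : K // x ^ 3 = 1} → W := fun t =>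
    ![s t.1 * t.2.1, s t.1 * t.2.2, s t.1 / (t.2.1 * t.2.2)]
  have hdd : ∀ t j, dd t j ^ 3 = s t.1 := by
    intro t j
    have h1 := t.2.1.2
    have h2 := t.2.2.2
    fin_cases j <;> simp [dd, mul_pow, div_pow, h1, h2] <;> linear_combination (s t.1) * hs t.1
  have hprod : ∀ t, dd t 0 * dd t 1 * dd t 2 = s t.1 := by
    intro t
    simp [dd]
    field_simp [hμ0 t.2.1, hμ0 t.2.2]
    linear_combination (s t.1) * hs t.1
  let ψ : Equiv.Perm (Fin 3) × {x : K // x ^ 3 = 1} × {x : K // x ^ 3 = 1} →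
      {A : Matrix (Fin 3) (Fin 3) K // A.det = 1 ∧
      ∃ c : K, aeval (fun i : Fin 3 => ∑ j : Fin 3, C (A i j) * X j) (HesseCubic.form k) =
        C c * HesseCubic.form k} := fun t => ⟨monMat t.1 (dd t), by rw [det_monMat, hprod]; exact hs _,
      s t.1, (subst3_eq _ _ _ _).mpr fun x => by
        rw [eval_monMat, hprod, hdd, hdd, hdd, eval_form]; ring⟩
  have hψ : Function.Bijective ψ := by
    constructor
    · rintro ⟨σ, a, b⟩ ⟨σ', a', b'⟩ h
      have h' : monMat σ (dd (σ, a, b)) = monMat σ' (dd (σ', a', b')) := congrArg Subtype.val h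
      have hσ : σ = σ' := by
        refine Equiv.ext fun l => ?_
        have := congrFun (congrFun h' (σ l)) l
        rw [monMat_apply, monMat_apply, if_pos rfl] at this
        by_contra hne
        rw [if_neg (fun e => hne e.symm)] at this
        have h3 := hdd (σ, a, b) l
        rw [this] at h3
        exact hs0 σ (by simpa using h3.symm)
      subst hσ
      have e0 := congrFun (congrFun h' (σ 0)) 0
      have e1 := congrFun (congrFun h' (σ 1)) 1
      rw [monMat_apply, monMat_apply, if_pos rfl, if_pos rfl] at e0 e1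
      simp [dd, hs0 σ] at e0 e1
      exact Prod.ext rfl (Prod.ext (Subtype.ext e0) (Subtype.ext e1))
    · rintro ⟨A, hdet, c, hc⟩
      have hc' := (subst3_eq _ _ _ _).mp hc
      have hdet0 : A.det ≠ 0 := by rw [hdet]; exact one_ne_zero
      obtain ⟨μ, hμ⟩ := triangle_fixed hk hdet0 hc'
      obtain ⟨σ, d, rfl⟩ := monomial_of_triangle hdet0 hμ
      rw [det_monMat] at hdet
      have hev := fun x => (eval_monMat k σ d x).symm.trans (hc' x)
      have q0 := hev ![1, 0, 0]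
      have q1 := hev ![0, 1, 0]
      have q2 := hev ![0, 0, 1]
      have q3 := hev ![1, 1, 1]
      simp [eval_form] at q0 q1 q2 q3
      have hp : d 0 * d 1 * d 2 = c := by
        have : k * (d 0 * d 1 * d 2 - c) = 0 := by linear_combination (q0 + q1 + q2 - q3) / 3
        exact sub_eq_zero.mp ((mul_eq_zero.mp this).resolve_left hk0)
      have hcs : c = s σ := by
        rw [hp] at hdet
        have := congrArg (fun z => s σ * z) hdet
        simp only [mul_one, ← mul_assoc, s] at this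
        rw [show s σ = ((Equiv.Perm.sign σ : ℤ) : K) from rfl, ← this,
          show ((Equiv.Perm.sign σ : ℤ) : K) * ((Equiv.Perm.sign σ : ℤ) : K) = 1 from hs σ, one_mul]
      subst hcs
      have u : ∀ z : K, z ^ 3 = s σ → (s σ * z) ^ 3 = 1 := fun z hz => by
        rw [mul_pow, hz]; linear_combination (s σ * s σ + 1) * hs σ
      refine ⟨⟨σ, ⟨s σ * d 0, u _ q0⟩, ⟨s σ * d 1, u _ q1⟩⟩, Subtype.ext (congrArg (monMat σ) ?_)⟩
      have hd0 : d 0 ≠ 0 := fun h => hs0 σ (by rw [← q0, h]; simp)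
      have hd1 : d 1 ≠ 0 := fun h => hs0 σ (by rw [← q1, h]; simp)
      ext i
      fin_cases i
      · simp [dd, ← mul_assoc, hs σ]
      · simp [dd, ← mul_assoc, hs σ]
      · simp [dd]
        have := hs0 σ
        field_simp
        linear_combination -(s σ) * hp - hs σ
  have hμcard : Nat.card {x : K // x ^ 3 = 1} = 3 := by
    rw [Nat.card_congr (Equiv.subtypeEquivRight (q := fun x => x ∈ Polynomial.nthRootsFinset 3 (1 : K))
      fun x => (Polynomial.mem_nthRootsFinset (by norm_num) (1 : K)).symm), Nat.card_eq_finsetCard]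
    exact hω.card_nthRootsFinset
  rw [← Nat.card_congr (Equiv.ofBijective ψ hψ), Nat.card_prod, Nat.card_prod, hμcard, Nat.card_eq_fintype_card,
    Fintype.card_perm, Fintype.card_fin]
  rfl

end Groth.Agent.CubicH28
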