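import Mathlib
import Groth.Agent.Lib.CubicH28.Invol

/-!
Lines through a point of a smooth cubic surface.
-/

namespace Groth.Agent.CubicH28

open MvPolynomial Module Matrix

variable {K : Type*} [Field K] [CharZero K] [IsAlgClosed K]

local notation "V" => (Fin 4 → K)

variable {f : MvPolynomial (Fin 4) K} (hf : f.IsHomogeneous 3)
include hf

omit [IsAlgClosed K] in
lemma eck_polar {e : V} {m : V →ₗ[K] K} (h : IsEck hf e m) (x y : V) :
    T f e x y = tang hf e x * m y + tang hf e y * m x := by
  have h3 := h.2.2 (x + y)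
  simp only [T_add₂ hf, T_add₃ hf, map_add] at h3
  rw [T_symm23 f e y x] at h3
  linear_combination h3 - h.2.2 x - h.2.2 y

/-- `f` restricted to the axis plane has no double zero. -/
theorem no_double (hsm : ∀ v : V, v ≠ 0 → eval v f = 0 → tang hf v ≠ 0) {e : V} {m : V →ₗ[K] K}
    (h : IsEck hf e m) (hL : tang hf e ≠ 0) {r : V} (hr : r ≠ 0) (hr1 : tang hf e r = 0) (hr2 : m r = 0)
    (hfr : eval r f = 0) (hW : ∀ w, tang hf e w = 0 → m w = 0 → T f r r w = 0) : False := by
  obtain ⟨x₀, hx₀⟩ : ∃ x, tang hf e x = 1 := LinearMap.surjective hL 1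
  have hrre : T f r r e = 0 := by
    rw [T_symm23 f r r e, T_symm12 f r e r, eck_polar hf h, hr1]; ring
  have hH : ∀ x, tang hf e x = 0 → T f r r x = 0 := by
    intro x hx
    have hw := hW (x - (m x / 2) • e) (by simp [hx, tang_self hf e h.1]) (by simp [h.2.1])
    have hxe : x = (x - (m x / 2) • e) + (m x / 2) • e := by simp
    rw [hxe, T_add₃ hf, T_smul₃ hf, hw, hrre]; ring
  obtain ⟨t, ht⟩ : ∃ t : K, T f r r x₀ / 2 + t * T f e r x₀ + t ^ 2 = 0 := by
    have hdeg : (Polynomial.C 1 * Polynomial.X ^ 2 + Polynomial.C (T f e r x₀) * Polynomial.X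
        + Polynomial.C (T f r r x₀ / 2)).degree ≠ 0 := by
      rw [Polynomial.degree_quadratic one_ne_zero]; norm_num
    obtain ⟨t, ht⟩ := IsAlgClosed.exists_root _ hdeg
    refine ⟨t, ?_⟩
    simp [Polynomial.IsRoot] at ht
    linear_combination ht
  have hv : r + t • e ≠ 0 := by
    intro h0
    have h1 := congrArg m h0
    simp [hr2, h.2.1] at h1
    rw [h1, zero_smul, add_zero] at h0
    exact hr h0
  refine hsm _ hv (by rw [eval_shift hf h, hfr, hr1]; ring) (LinearMap.ext fun x => ?_)
  have hsplit : x = (x - tang hf e x • x₀) + tang hf e x • x₀ := by simp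
  have hx' : tang hf e (x - tang hf e x • x₀) = 0 := by simp [hx₀]
  have expand : ∀ z, tang hf (r + t • e) z = T f r r z / 2 + t * T f e r z + t ^ 2 * tang hf e z := by
    intro z
    simp only [tang_apply, T_add hf, T_add₂ hf, T_smul hf, T_smul₂ hf]
    rw [T_symm12 f r e z]; ring
  rw [hsplit, map_add, map_smul, expand, expand, LinearMap.zero_apply, smul_eq_mul, hH _ hx', hx', hx₀,
    eck_polar hf h, hr1, hr2]
  linear_combination tang hf e x * ht

omit [CharZero K] [IsAlgClosed K] in
/-- cubic in two-parameter form -/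
lemma eval_pair_zero [CharZero K] (r u : V) (hr : eval r f = 0) (s : K) :
    eval (s • r + u) f = eval u f + s * (T f u u r / 2) + s ^ 2 * (T f r r u / 2) := by
  rw [add_comm, eval_line hf, hr, T_symm12 f u r r, T_symm23 f r u r]
  ring

omit [IsAlgClosed K] in
lemma axis_span {e : V} {m : V →ₗ[K] K} (h : IsEck hf e m) (hL : tang hf e ≠ 0) {r u : V}
    (hr : tang hf e r = 0 ∧ m r = 0) (hu : tang hf e u = 0 ∧ m u = 0) (hind : LinearIndependent K ![r, u])
    {w : V} (hw : tang hf e w = 0 ∧ m w = 0) : ∃ a b : K, a • r + b • u = w := by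
  let W : Submodule K V := LinearMap.ker (tang hf e) ⊓ LinearMap.ker m
  have hle : Submodule.span K {r, u} ≤ W := Submodule.span_le.mpr (by
    simp [Set.insert_subset_iff, W, hr.1, hr.2, hu.1, hu.2])
  have h1 : finrank K (LinearMap.ker (tang hf e)) = 3 := by
    have h1 := LinearMap.finrank_range_add_finrank_ker (tang hf e)
    rw [LinearMap.range_eq_top.mpr (LinearMap.surjective hL), finrank_top, Module.finrank_self] at h1
    simp at h1
    omega
  have hlt : W < LinearMap.ker (tang hf e) := lt_of_le_not_ge inf_le_left fun h' => by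
    have : m e = 0 := (Submodule.mem_inf.mp (h' (tang_self hf e h.1 : e ∈ LinearMap.ker (tang hf e)))).2
    rw [h.2.1] at this
    exact two_ne_zero this
  have h2 := Submodule.finrank_lt_finrank_of_lt hlt
  have h3 : finrank K (Submodule.span K {r, u}) = 2 := by
    have := finrank_span_eq_card hind
    rw [Matrix.range_cons, Matrix.range_cons, Matrix.range_empty, Set.union_empty, ← Set.insert_eq, Fintype.card_fin] at this
    exact this
  have heq := Submodule.eq_of_le_of_finrank_le hle (by omega)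
  exact Submodule.mem_span_pair.mp (heq ▸ (Submodule.mem_inf.mpr hw) : w ∈ Submodule.span K {r, u})

theorem lead_ne_zero (hsm : ∀ v : V, v ≠ 0 → eval v f = 0 → tang hf v ≠ 0) {e : V} {m : V →ₗ[K] K}
    (h : IsEck hf e m) (hL : tang hf e ≠ 0) {r u : V} (hr : tang hf e r = 0 ∧ m r = 0)
    (hu : tang hf e u = 0 ∧ m u = 0) (hind : LinearIndependent K ![r, u]) (hfr : eval r f = 0) :
    T f r r u ≠ 0 := by
  intro h0
  refine no_double hf hsm h hL (by simpa using hind.ne_zero 0) hr.1 hr.2 hfr fun w hw1 hw2 => ?_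
  obtain ⟨a, b, rfl⟩ := axis_span hf h hL hr hu hind ⟨hw1, hw2⟩
  rw [T_add₃ hf, T_smul₃ hf, T_smul₃ hf, h0, T_self hf, hfr]; ring

omit [IsAlgClosed K] in
lemma span_vanish {e : V} {m : V →ₗ[K] K} (h : IsEck hf e m) {r : V} (hr : tang hf e r = 0)
    (hfr : eval r f = 0) : ∀ x ∈ Submodule.span K {e, r}, eval x f = 0 := by
  intro x hx
  obtain ⟨a, b, rfl⟩ := Submodule.mem_span_pair.mp hx
  have hh : eval (b • r) f = 0 := by
    have := T_self hf (b • r)
    rw [T_smul hf, T_smul₂ hf, T_smul₃ hf, T_self hf, hfr] at this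
    linear_combination -this / 6
  rw [add_comm, eval_shift hf h, hh, map_smul, hr, smul_zero]; ring

/-- Three lines through an involution centre. -/
theorem three_lines (hsm : ∀ v : V, v ≠ 0 → eval v f = 0 → tang hf v ≠ 0) {e : V} (he : e ≠ 0)
    {m : V →ₗ[K] K} (h : IsEck hf e m) :
    ∃ U : Fin 3 → Submodule K V, Function.Injective U ∧
      ∀ i : Fin 3, finrank K ↥(U i) = 2 ∧ e ∈ U i ∧ ∀ u ∈ U i, eval u f = 0 := by
  have hL := hsm e he h.1
  have h2 : 2 ≤ finrank K ↥(LinearMap.ker (tang hf e) ⊓ LinearMap.ker m) := by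
    have e1 := LinearMap.finrank_range_add_finrank_ker (tang hf e)
    have e2 := LinearMap.finrank_range_add_finrank_ker m
    have e3 := Submodule.finrank_sup_add_finrank_inf_eq (LinearMap.ker (tang hf e)) (LinearMap.ker m)
    have e4 := Submodule.finrank_le (LinearMap.ker (tang hf e) ⊔ LinearMap.ker m)
    have e5 := Submodule.finrank_le (LinearMap.range (tang hf e))
    have e6 := Submodule.finrank_le (LinearMap.range m)
    simp at e1 e2 e4 e5 e6
    omega
  obtain ⟨w, hw⟩ := exists_linearIndependent_of_le_finrank h2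
  obtain ⟨h₁, hh₁, hh₁'⟩ : ∃ x : V, x = (w 0 : V) ∧ (tang hf e x = 0 ∧ m x = 0) :=
    ⟨_, rfl, Submodule.mem_inf.mp (w 0).2⟩
  obtain ⟨h₂, hh₂, hh₂'⟩ : ∃ x : V, x = (w 1 : V) ∧ (tang hf e x = 0 ∧ m x = 0) :=
    ⟨_, rfl, Submodule.mem_inf.mp (w 1).2⟩
  have hind : LinearIndependent K ![h₁, h₂] := by
    rw [LinearIndependent.pair_iff]
    intro a b hab
    have := Fintype.linearIndependent_iff.mp hw ![a, b] (Subtype.ext (by simpa [Fin.sum_univ_two, hh₁, hh₂] using hab))
    exact ⟨this 0, this 1⟩
  obtain ⟨r, u, hr, hu, hru, hfr⟩ : ∃ r u : V, (tang hf e r = 0 ∧ m r = 0) ∧ (tang hf e u = 0 ∧ m u = 0) ∧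
      LinearIndependent K ![r, u] ∧ eval r f = 0 := by
    by_cases h0 : eval h₂ f = 0
    · exact ⟨h₂, h₁, hh₂', hh₁', LinearIndependent.pair_symm_iff.mp hind, h0⟩
    · have hdeg : (Polynomial.C (eval h₂ f) * Polynomial.X ^ 3 + Polynomial.C (T f h₁ h₂ h₂ / 2) * Polynomial.X ^ 2
          + Polynomial.C (T f h₁ h₁ h₂ / 2) * Polynomial.X + Polynomial.C (eval h₁ f)).degree ≠ 0 := by
        rw [Polynomial.degree_cubic h0]; norm_num
      obtain ⟨t, ht⟩ := IsAlgClosed.exists_root _ hdeg
      simp [Polynomial.IsRoot] at ht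
      refine ⟨h₁ + t • h₂, h₂, ⟨by simp [hh₁'.1, hh₂'.1], by simp [hh₁'.2, hh₂'.2]⟩, hh₂', ?_, ?_⟩
      · rw [LinearIndependent.pair_iff] at hind ⊢
        intro a b hab
        obtain ⟨ha, hb⟩ := hind a (a * t + b) (by linear_combination (norm := module) hab)
        subst ha
        exact ⟨rfl, by linear_combination hb⟩
      · rw [eval_line hf]; linear_combination ht
  have hA := lead_ne_zero hf hsm h hL hr hu hru hfr
  obtain ⟨s₁, hs₁⟩ : ∃ s : K, eval (s • r + u) f = 0 := by
    have hA2 : T f r r u / 2 ≠ 0 := div_ne_zero hA two_ne_zero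
    have hdeg : (Polynomial.C (T f r r u / 2) * Polynomial.X ^ 2 + Polynomial.C (T f u u r / 2) * Polynomial.X
        + Polynomial.C (eval u f)).degree ≠ 0 := by
      rw [Polynomial.degree_quadratic hA2]; norm_num
    obtain ⟨s, hs⟩ := IsAlgClosed.exists_root _ hdeg
    simp [Polynomial.IsRoot] at hs
    exact ⟨s, by rw [eval_pair_zero hf r u hfr]; linear_combination hs⟩
  obtain ⟨s₂, hs₂def⟩ : ∃ s₂ : K, s₂ = -(T f u u r) / T f r r u - s₁ := ⟨_, rfl⟩
  have hAs : T f r r u * (s₁ + s₂) = -(T f u u r) := by rw [hs₂def]; field_simp; ring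
  have hs₂ : eval (s₂ • r + u) f = 0 := by
    rw [eval_pair_zero hf r u hfr] at hs₁ ⊢
    linear_combination hs₁ + (s₂ - s₁) / 2 * hAs
  have hne : s₁ ≠ s₂ := by
    intro heq
    refine no_double hf hsm h hL (r := s₁ • r + u) ?_ (by simp [hr.1, hu.1]) (by simp [hr.2, hu.2]) hs₁ ?_
    · intro h0
      exact one_ne_zero (LinearIndependent.pair_iff.mp hru s₁ 1 (by simpa using h0)).2
    · intro w hw1 hw2
      obtain ⟨a, b, rfl⟩ := axis_span hf h hL hr hu hru ⟨hw1, hw2⟩
      have hr0 : T f (s₁ • r + u) (s₁ • r + u) r = 0 := by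
        simp only [T_add hf, T_add₂ hf, T_smul hf, T_smul₂ hf]
        rw [T_symm12 f u r r, T_symm23 f r u r, T_self hf r, hfr]
        rw [← heq] at hAs
        linear_combination hAs
      have hu0 : T f (s₁ • r + u) (s₁ • r + u) (s₁ • r + u) = 0 := by rw [T_self hf, hs₁, mul_zero]
      rw [T_add₃ hf, T_smul₃ hf, hr0] at hu0
      rw [T_add₃ hf, T_smul₃ hf, T_smul₃ hf, hr0]
      linear_combination b * hu0
  let R : Fin 3 → V := ![r, s₁ • r + u, s₂ • r + u]
  have hR : ∀ i, (tang hf e (R i) = 0 ∧ m (R i) = 0) ∧ eval (R i) f = 0 := by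
    intro i
    fin_cases i
    · exact ⟨hr, hfr⟩
    · exact ⟨⟨by simp [R, hr.1, hu.1], by simp [R, hr.2, hu.2]⟩, hs₁⟩
    · exact ⟨⟨by simp [R, hr.1, hu.1], by simp [R, hr.2, hu.2]⟩, hs₂⟩
  have hR0 : ∀ i, R i ≠ 0 := by
    intro i h0
    have hp := LinearIndependent.pair_iff.mp hru
    fin_cases i
    · exact one_ne_zero (hp 1 0 (by simpa [R] using h0)).1
    · exact one_ne_zero (hp s₁ 1 (by simpa [R] using h0)).2
    · exact one_ne_zero (hp s₂ 1 (by simpa [R] using h0)).2
  refine ⟨fun i => Submodule.span K {e, R i}, fun i j hij => ?_, fun i => ⟨?_, Submodule.subset_span (by simp), span_vanish hf h (hR i).1.1 (hR i).2⟩⟩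
  · have hmem : R i ∈ Submodule.span K {e, R j} := by
      rw [← show Submodule.span K {e, R i} = Submodule.span K {e, R j} from hij]
      exact Submodule.subset_span (by simp)
    obtain ⟨a, b, hab⟩ := Submodule.mem_span_pair.mp hmem
    have ha : a = 0 := by
      have := congrArg m hab
      simp [(hR i).1.2, (hR j).1.2, h.2.1] at this
      exact this
    rw [ha, zero_smul, zero_add] at hab
    have hp := LinearIndependent.pair_iff.mp hru
    fin_cases i <;> fin_cases j <;> simp [R] at hab ⊢
    · exact one_ne_zero (α := K) (by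
        obtain ⟨q1, q2⟩ := hp (b * s₁ - 1) b (by linear_combination (norm := module) hab)
        rw [q2] at q1; linear_combination -q1)
    · exact one_ne_zero (α := K) (by
        obtain ⟨q1, q2⟩ := hp (b * s₂ - 1) b (by linear_combination (norm := module) hab)
        rw [q2] at q1; linear_combination -q1)
    · exact one_ne_zero (α := K) (by
        obtain ⟨q1, q2⟩ := hp (b - s₁) (-1) (by linear_combination (norm := module) hab)
        linear_combination -q2)
    · obtain ⟨q1, q2⟩ := hp (b * s₂ - s₁) (b - 1) (by linear_combination (norm := module) hab)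
      exact hne (by linear_combination -q1 + s₂ * q2)
    · exact one_ne_zero (α := K) (by
        obtain ⟨q1, q2⟩ := hp (b - s₂) (-1) (by linear_combination (norm := module) hab)
        linear_combination -q2)
    · obtain ⟨q1, q2⟩ := hp (b * s₁ - s₂) (b - 1) (by linear_combination (norm := module) hab)
      exact hne (by linear_combination q1 - s₁ * q2)
  · have hli : LinearIndependent K ![e, R i] := by
      rw [linearIndependent_fin2]
      refine ⟨by simpa using hR0 i, fun a ha => ?_⟩
      have := congrArg m (show a • R i = e from ha)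
      simp [(hR i).1.2, h.2.1] at this
    have := finrank_span_eq_card hli
    rw [Matrix.range_cons, Matrix.range_cons, Matrix.range_empty, Set.union_empty, ← Set.insert_eq, Fintype.card_fin] at this
    exact this

theorem tang_zero_of_line {e : V} {U : Submodule K V} (he : e ∈ U) (hU : ∀ u ∈ U, eval u f = 0)
    {u : V} (hu : u ∈ U) : tang hf e u = 0 := by
  obtain ⟨-, -, h2, -⟩ := line_cond hf e u (fun t => hU _ (add_mem hu (Submodule.smul_mem _ t he)))
  rw [tang_apply, T_symm23 f e e u, T_symm12 f e u e, h2, zero_div]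

/-- At most three lines. -/
theorem no_four_lines (hsm : ∀ v : V, v ≠ 0 → eval v f = 0 → tang hf v ≠ 0) {e : V} (he : e ≠ 0)
    (U : Fin 4 → Submodule K V) (hinj : Function.Injective U)
    (hU : ∀ i, e ∈ U i ∧ finrank K ↥(U i) = 2 ∧ ∀ u ∈ U i, eval u f = 0) : False := by
  obtain ⟨m, h⟩ := isEck_of_three_lines hf hsm he ⟨U ∘ Fin.castSucc, hinj.comp (Fin.castSucc_injective _),
    fun i => ⟨(hU _).2.1, (hU _).1, (hU _).2.2⟩⟩
  have hL := hsm e he h.1
  have hex : ∀ i, ∃ u ∈ U i, u ≠ 0 ∧ (tang hf e u = 0 ∧ m u = 0) ∧ eval u f = 0 := by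
    intro i
    obtain ⟨x, hx, hxe⟩ : ∃ x ∈ U i, x ∉ K ∙ e := by
      by_contra hcon
      push Not at hcon
      have h1 := Submodule.finrank_mono (show U i ≤ K ∙ e from hcon)
      rw [finrank_span_singleton he, (hU i).2.1] at h1
      omega
    have hmem : x - (m x / 2) • e ∈ U i := sub_mem hx (Submodule.smul_mem _ _ (hU i).1)
    refine ⟨_, hmem, fun h0 => hxe (Submodule.mem_span_singleton.mpr ⟨m x / 2, (sub_eq_zero.mp h0).symm⟩),
      ⟨tang_zero_of_line hf (hU i).1 (hU i).2.2 hmem, by simp [h.2.1]⟩, (hU i).2.2 _ hmem⟩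
  choose r hr hr0 hrW hrf using hex
  have hind : ∀ i j, i ≠ j → LinearIndependent K ![r i, r j] := by
    intro i j hij
    rw [linearIndependent_fin2]
    refine ⟨by simpa using hr0 j, fun a ha => hij (hinj ?_)⟩
    have ha' : a • r j = r i := ha
    have ha0 : a ≠ 0 := fun h0 => hr0 i (by rw [← ha', h0, zero_smul])
    have hmem : r i ∈ U j := ha' ▸ Submodule.smul_mem _ _ (hr j)
    have hspan : ∀ k, r i ∈ U k → U k = Submodule.span K {e, r i} := by
      intro k hk
      refine (Submodule.eq_of_le_of_finrank_eq (Submodule.span_le.mpr (by simp [Set.insert_subset_iff, (hU k).1, hk])) ?_).symm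
      have hli : LinearIndependent K ![e, r i] := by
        rw [linearIndependent_fin2]
        refine ⟨by simpa using hr0 i, fun b hb => ?_⟩
        have := congrArg m (show b • r i = e from hb)
        simp [(hrW i).2, h.2.1] at this
      have h5 := finrank_span_eq_card hli
      rw [Matrix.range_cons, Matrix.range_cons, Matrix.range_empty, Set.union_empty, ← Set.insert_eq, Fintype.card_fin] at h5
      rw [h5, (hU k).2.1]
    rw [hspan i (hr i), hspan j hmem]
  have h01 := hind 0 1 (by decide)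
  have hA := lead_ne_zero hf hsm h hL (hrW 0) (hrW 1) h01 (hrf 0)
  have hroot : ∀ i, i ≠ 0 → i ≠ 1 → ∃ b : K, b ≠ 0 ∧
      r i = b • ((-(T f (r 1) (r 1) (r 0)) / T f (r 0) (r 0) (r 1)) • r 0 + r 1) := by
    intro i h0 h1
    obtain ⟨a, b, hab⟩ := axis_span hf h hL (hrW 0) (hrW 1) h01 (hrW i)
    have hb : b ≠ 0 := fun hb => by
      rw [hb, zero_smul, add_zero] at hab
      exact one_ne_zero (LinearIndependent.pair_iff.mp (hind i 0 h0) 1 (-a) (by rw [← hab]; module)).1
    have ha : a ≠ 0 := fun ha => by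
      rw [ha, zero_smul, zero_add] at hab
      exact one_ne_zero (LinearIndependent.pair_iff.mp (hind i 1 h1) 1 (-b) (by rw [← hab]; module)).1
    have hf0 := hrf i
    have hb1 : eval (b • r 1) f = 0 := by
      have := T_self hf (b • r 1)
      rw [T_smul hf, T_smul₂ hf, T_smul₃ hf, T_self hf, hrf 1] at this
      linear_combination -this / 6
    rw [← hab, eval_pair_zero hf (r 0) (b • r 1) (hrf 0), hb1, T_smul hf, T_smul₂ hf, T_smul₃ hf] at hf0
    have h5 : (a * b) * (b * T f (r 1) (r 1) (r 0) + a * T f (r 0) (r 0) (r 1)) = 0 := by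
      linear_combination 2 * hf0
    have h6 := (mul_eq_zero.mp h5).resolve_left (mul_ne_zero ha hb)
    refine ⟨b, hb, ?_⟩
    rw [← hab, smul_add, smul_smul]
    congr 2
    field_simp
    linear_combination h6
  obtain ⟨b, hb, h2⟩ := hroot 2 (by decide) (by decide)
  obtain ⟨b', hb', h3⟩ := hroot 3 (by decide) (by decide)
  exact hb' (LinearIndependent.pair_iff.mp (hind 2 3 (by decide)) b' (-b) (by rw [h2, h3]; module)).1

/-- Eckardt points joined by a line on the surface: the involutions commute. -/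
theorem m_eq_zero_of_line (hsm : ∀ v : V, v ≠ 0 → eval v f = 0 → tang hf v ≠ 0) {e e' : V}
    (he' : e' ∉ K ∙ e) {m m' : V →ₗ[K] K} (h : IsEck hf e m) (h' : IsEck hf e' m')
    (hline : ∀ u ∈ Submodule.span K {e, e'}, eval u f = 0) : m e' = 0 := by
  have hee : e ∈ Submodule.span K {e, e'} := Submodule.subset_span (by simp)
  have hee' : e' ∈ Submodule.span K {e, e'} := Submodule.subset_span (by simp)
  have hL1 := tang_zero_of_line hf hee hline hee'
  have hL2 := tang_zero_of_line hf hee' hline hee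
  have key : ∀ x, tang hf e x * m e' = tang hf e' x * m' e := by
    intro x
    have h1 := eck_polar hf h e' x
    have h2 := eck_polar hf h' e x
    rw [hL1] at h1
    rw [hL2, T_symm12 f e' e x] at h2
    linear_combination h2 - h1
  by_contra hne
  have he0 : e ≠ 0 := fun h0 => by
    have h2 := h.2.1
    rw [h0, map_zero] at h2
    exact two_ne_zero h2.symm
  have hL := hsm e he0 h.1
  have hm' : m' e ≠ 0 := by
    intro h0
    refine hL (LinearMap.ext fun x => ?_)
    have := key x
    rw [h0, mul_zero] at this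
    exact (mul_eq_zero.mp this).resolve_right hne
  obtain ⟨t, ht⟩ : ∃ t : K, t ^ 2 + t * m e' + m e' / m' e = 0 := by
    have hdeg : (Polynomial.C 1 * Polynomial.X ^ 2 + Polynomial.C (m e') * Polynomial.X
        + Polynomial.C (m e' / m' e)).degree ≠ 0 := by
      rw [Polynomial.degree_quadratic one_ne_zero]; norm_num
    obtain ⟨t, ht⟩ := IsAlgClosed.exists_root _ hdeg
    simp [Polynomial.IsRoot] at ht
    exact ⟨t, by linear_combination ht⟩
  refine hsm (e' + t • e) (fun h0 => he' (Submodule.mem_span_singleton.mpr ⟨-t, ?_⟩)) (hline _ (add_mem hee' (Submodule.smul_mem _ _ hee))) (LinearMap.ext fun x => ?_)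
  · rw [eq_neg_of_add_eq_zero_left h0, neg_smul]
  · have hx : tang hf (e' + t • e) x = tang hf e' x + t * T f e e' x + t ^ 2 * tang hf e x := by
      simp only [tang_apply, T_add hf, T_add₂ hf, T_smul hf, T_smul₂ hf]
      rw [T_symm12 f e' e x]; ring
    have hc : tang hf e' x = m e' / m' e * tang hf e x := by
      field_simp
      linear_combination -(key x)
    rw [hx, LinearMap.zero_apply, eck_polar hf h e' x, hL1, hc]
    linear_combination tang hf e x * ht

end Groth.Agent.CubicH28
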